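/-
Involutions in double covers of small alternating groups.
-/
import Mathlib
import Cfsg.Prelude.Def_SporadicB
import Cfsg.Agent.S0891

set_option autoImplicit false

namespace CfsgAltCover

open Equiv

/-- Permutations of the same cycle type, commuting with an odd permutation, are conjugate by an even one. -/
theorem conj_even {α : Type*} [Fintype α] [DecidableEq α] {s t c : Perm α} (h : s.cycleType = t.cycleType)
    (hc : Commute c s) (hodd : Perm.sign c = -1) : ∃ g ∈ alternatingGroup α, g * s * g⁻¹ = t := by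
  obtain ⟨g, hg⟩ := isConj_iff.mp (Perm.isConj_iff_cycleType_eq.mpr h)
  rcases Int.units_eq_one_or (Perm.sign g) with e | e
  · exact ⟨g, Perm.mem_alternatingGroup.mpr e, hg⟩
  · refine ⟨g * c, Perm.mem_alternatingGroup.mpr (by rw [map_mul, e, hodd]; rfl), ?_⟩
    rw [show g * c * s * (g * c)⁻¹ = g * (c * s * c⁻¹) * g⁻¹ by group, hc.eq, mul_inv_cancel_right, hg]

/-- An even involution on at most seven points is a product of two disjoint transpositions. -/
theorem cycleType_invol {n : ℕ} (hn : n ≤ 7) {t : Perm (Fin n)} (ht : t ∈ alternatingGroup (Fin n))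
    (h2 : t * t = 1) (h1 : t ≠ 1) : t.cycleType = {2, 2} := by
  have hall : ∀ k ∈ t.cycleType, k = 2 := fun k hk => by
    have := (Perm.dvd_of_mem_cycleType hk).trans (orderOf_dvd_of_pow_eq_one (by rw [sq, h2]))
    have := Perm.two_le_of_mem_cycleType hk
    rcases (Nat.dvd_prime Nat.prime_two).mp ‹k ∣ 2› with e | e <;> omega
  have hrep := Multiset.eq_replicate_card.mpr hall
  have hsum := Perm.sum_cycleType t
  have hle : t.support.card ≤ 7 := (Finset.card_le_univ _).trans (by rwa [Fintype.card_fin])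
  rw [hrep, Multiset.sum_replicate, smul_eq_mul] at hsum
  have hsign := Perm.sign_of_cycleType t
  rw [Perm.mem_alternatingGroup.mp ht, hrep, Multiset.sum_replicate, Multiset.card_replicate, smul_eq_mul] at hsign
  set k := Multiset.card t.cycleType with hk
  have hk0 : k ≠ 0 := fun e => h1 (Perm.cycleType_eq_zero.mp (Multiset.card_eq_zero.mp e))
  have hk4 : k ≤ 3 := by omega
  rw [hrep]
  interval_cases k <;> first | rfl | exact absurd hsign (by decide) | omega

theorem invol_conj {n : ℕ} (hn : n ≤ 7) {s t : alternatingGroup (Fin n)} (hs : orderOf s = 2) (ht : orderOf t = 2) :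
    ∃ g : alternatingGroup (Fin n), g * s * g⁻¹ = t := by
  have key : ∀ u : alternatingGroup (Fin n), orderOf u = 2 →
      (u : Perm (Fin n)).cycleType = {2, 2} := fun u hu => by
    refine cycleType_invol hn u.2 ?_ ?_
    · rw [← Subgroup.coe_mul, ← sq, ← hu, pow_orderOf_eq_one]; rfl
    · intro e
      have : u = 1 := Subtype.ext e
      rw [this, orderOf_one] at hu; omega
  have hS := key s hs
  obtain ⟨c, hc⟩ : (s : Perm (Fin n)).cycleFactorsFinset.Nonempty := by
    by_contra h
    rw [Finset.not_nonempty_iff_eq_empty, Perm.cycleFactorsFinset_eq_empty_iff] at h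
    rw [h, Perm.cycleType_one] at hS
    exact absurd hS (by decide)
  have hcs : Commute c (s : Perm (Fin n)) := Perm.self_mem_cycle_factors_commute hc
  have hcodd : Perm.sign c = -1 := by
    have hcyc := (Perm.mem_cycleFactorsFinset_iff.mp hc).1
    have h2 : c.support.card = 2 := by
      have : c.support.card ∈ (s : Perm (Fin n)).cycleType := by
        rw [Perm.cycleType_def, Multiset.mem_map]
        exact ⟨c, hc, rfl⟩
      rw [hS] at this
      simpa using this
    rw [hcyc.sign, h2]; rfl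
  obtain ⟨g, hg, he⟩ := conj_even (hS.trans (key t ht).symm) hcs hcodd
  exact ⟨⟨g, hg⟩, Subtype.ext he⟩

variable {H : Type*} [Group H]

/-- A dihedral pair gives a homomorphism. -/
theorem exists_dihedralHom {m : ℕ} [NeZero m] {r s : H} (hr : r ^ m = 1) (hs : s * s = 1) (hsr : s * r * s = r⁻¹) :
    ∃ f : DihedralGroup m →* H, f (.r 1) = r ∧ f (.sr 0) = s := by
  let P : ZMod m → H := fun i => r ^ i.val
  have hadd : ∀ i j, P (i + j) = P i * P j := fun i j => by
    show r ^ (i + j).val = r ^ i.val * r ^ j.val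
    rw [ZMod.val_add, ← pow_add, ← pow_eq_pow_mod _ hr]
  have hsub : ∀ i j, P (j - i) = (P i)⁻¹ * P j := fun i j => by
    rw [eq_inv_mul_iff_mul_eq, ← hadd, add_sub_cancel]
  have hsi : s⁻¹ = s := inv_eq_of_mul_eq_one_right hs
  have hconj : ∀ i, P i * s = s * (P i)⁻¹ := fun i => by
    have h := conj_pow (a := s) (b := r) (i := i.val)
    rw [hsi, hsr, inv_pow] at h
    show r ^ i.val * s = s * (r ^ i.val)⁻¹
    rw [h, ← mul_assoc, ← mul_assoc, hs, one_mul]
  refine ⟨MonoidHom.mk' (fun x => match x with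
    | .r i => P i
    | .sr i => s * P i) ?_, ?_, ?_⟩
  · rintro (i | i) (j | j)
    · rw [DihedralGroup.r_mul_r]; exact hadd i j
    · rw [DihedralGroup.r_mul_sr]
      show s * P (j - i) = P i * (s * P j)
      rw [hsub, ← mul_assoc (P i), hconj, mul_assoc]
    · rw [DihedralGroup.sr_mul_r]
      show s * P (i + j) = s * P i * P j
      rw [hadd, mul_assoc]
    · rw [DihedralGroup.sr_mul_sr]
      show P (j - i) = s * P i * (s * P j)
      rw [hsub, mul_assoc, ← mul_assoc (P i), hconj, ← mul_assoc, ← mul_assoc, hs, one_mul]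
  · show r ^ (1 : ZMod m).val = r
    by_cases hm : m = 1
    · subst hm; rw [pow_one] at hr; simp [hr]
    · haveI : Fact (1 < m) := ⟨by have := NeZero.pos m; omega⟩
      rw [ZMod.val_one, pow_one]
  · show s * r ^ (0 : ZMod m).val = s
    rw [ZMod.val_zero, pow_zero, mul_one]

/-- A central extension of order two with all lifts of involutions squaring to one splits over a dihedral
subgroup of odd index. -/
theorem split_of_dihedral [Finite H] {A : Type*} [Group A] (π : H →* A) (hπ : Function.Surjective π)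
    (hk : π.ker = Subgroup.center H) (hZ : Nat.card (Subgroup.center H) = 2)
    (hinv : ∀ x : H, π x * π x = 1 → π x ≠ 1 → x * x = 1) {m : ℕ} [NeZero m] (r s : A)
    (hr : ∀ x : H, π x = r → x ^ m = 1) (j : DihedralGroup m →* A) (hj : Function.Injective j)
    (hjr : j (.r 1) = r) (hjs : j (.sr 0) = s) (hodd : Odd j.range.index) :
    ∃ L : Subgroup H, (Subgroup.center H).IsComplement' L := by
  obtain ⟨R, hR⟩ := hπ r
  obtain ⟨S, hS⟩ := hπ s
  have hsne : ∀ d : DihedralGroup m, d ≠ 1 → d * d = 1 → ∀ x : H, π x = j d → x * x = 1 := fun d h1 h2 x hx =>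
    hinv x (by rw [hx, ← map_mul, h2, map_one]) (by rw [hx]; exact fun e => h1 (hj (e.trans (map_one j).symm)))
  have hS2 : S * S = 1 := hsne (.sr 0) (by intro h; cases h) (DihedralGroup.sr_mul_self 0) S (by rw [hS, hjs])
  have hSR : S * R * S = R⁻¹ := by
    have h : (S * R) * (S * R) = 1 := hsne (.sr 1) (by intro h; cases h) (DihedralGroup.sr_mul_self 1) _
      (by rw [map_mul, hS, hR, ← hjr, ← hjs, ← map_mul, DihedralGroup.sr_mul_r, zero_add])
    rw [← mul_assoc] at h
    exact eq_inv_of_mul_eq_one_left h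
  obtain ⟨f, hfr, hfs⟩ := exists_dihedralHom (hr R hR) hS2 hSR
  have hπf : ∀ d, π (f d) = j d := by
    have hr1 : ∀ k : ℕ, π (f (.r k)) = j (.r k) := fun k => by
      rw [← DihedralGroup.r_one_pow, map_pow, map_pow, map_pow, hfr, hR, hjr]
    rintro (i | i)
    · have := hr1 i.val; rwa [ZMod.natCast_zmod_val] at this
    · have := hr1 i.val
      rw [ZMod.natCast_zmod_val] at this
      rw [show DihedralGroup.sr i = .sr 0 * .r i by rw [DihedralGroup.sr_mul_r, zero_add], map_mul, map_mul, map_mul,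
        this, hfs, hS, hjs]
  let P := j.range.comap π
  let δ : P →* DihedralGroup m :=
    (MonoidHom.ofInjective hj).symm.toMonoidHom.comp ((π.comp P.subtype).codRestrict j.range fun p => p.2)
  have hδ : ∀ p : P, j (δ p) = π p := fun p =>
    congrArg Subtype.val ((MonoidHom.ofInjective hj).apply_symm_apply ⟨π p, p.2⟩)
  have hmem : ∀ p : P, (p : H) * (f (δ p))⁻¹ ∈ Subgroup.center H := fun p => by
    rw [← hk, MonoidHom.mem_ker, map_mul, map_inv, hπf, hδ, mul_inv_cancel]
  letI : CommGroup (Subgroup.center H) := { (Subgroup.center H).toGroup with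
    mul_comm := fun a b => Subtype.ext (Subgroup.mem_center_iff.mp b.2 a) }
  let φ : P →* Subgroup.center H := MonoidHom.mk' (fun p => ⟨_, hmem p⟩) fun p q => Subtype.ext (by
    show ((p : H) * q) * (f (δ (p * q)))⁻¹ = (p : H) * (f (δ p))⁻¹ * ((q : H) * (f (δ q))⁻¹)
    rw [map_mul, map_mul, mul_inv_rev]
    have hc := Subgroup.mem_center_iff.mp (hmem q) (f (δ p))⁻¹
    rw [mul_assoc (p : H) (f (δ p))⁻¹, hc]
    group)
  haveI : P.FiniteIndex := inferInstance
  let τ := MonoidHom.transfer φ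
  have hidx : Odd P.index := by rw [Subgroup.index_comap_of_surjective _ hπ]; exact hodd
  have hτ : ∀ z ∈ Subgroup.center H, ((τ z : Subgroup.center H) : H) = z := by
    intro z hz
    have hzk : π z = 1 := by rw [← MonoidHom.mem_ker, hk]; exact hz
    have hzP : ∀ i : ℕ, z ^ i ∈ P := fun i => by
      show π (z ^ i) ∈ j.range
      rw [map_pow, hzk, one_pow]; exact one_mem _
    have key : ∀ (k : ℕ) (g : H), g⁻¹ * z ^ k * g ∈ P → g⁻¹ * z ^ k * g = z ^ k := fun k g _ => by
      rw [mul_assoc, ← Subgroup.mem_center_iff.mp (pow_mem hz k) g, inv_mul_cancel_left]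
    show ((MonoidHom.transfer φ z : Subgroup.center H) : H) = z
    rw [MonoidHom.transfer_eq_pow φ z key]
    show z ^ P.index * (f (δ ⟨z ^ P.index, _⟩))⁻¹ = z
    have h1 : δ ⟨z ^ P.index, hzP _⟩ = 1 := hj (by rw [hδ, map_one]; show π (z ^ P.index) = 1; rw [map_pow, hzk, one_pow])
    rw [h1, map_one, inv_one, mul_one]
    have h2 : z ^ 2 = 1 := by
      have := congrArg Subtype.val (pow_card_eq_one' (x := (⟨z, hz⟩ : Subgroup.center H)))
      rwa [hZ] at this
    obtain ⟨i, hi⟩ := hidx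
    rw [hi, pow_succ, pow_mul, h2, one_pow, one_mul]
  refine ⟨τ.ker, Subgroup.isComplement'_of_disjoint_and_mul_eq_univ ?_ ?_⟩
  · rw [Subgroup.disjoint_def]
    intro z hz hzk
    rw [← hτ z hz, MonoidHom.mem_ker.mp hzk]; rfl
  · refine Set.eq_univ_of_forall fun g => ⟨(τ g : Subgroup.center H), (τ g).2, ((τ g : Subgroup.center H) : H)⁻¹ * g, ?_, mul_inv_cancel_left _ _⟩
    rw [SetLike.mem_coe, MonoidHom.mem_ker, map_mul, map_inv]
    have : τ ((τ g : Subgroup.center H) : H) = τ g := Subtype.ext (hτ _ (τ g).2)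
    rw [this, inv_mul_cancel]

/-- An element of the alternating group from its sign. -/
def even_perm {n : ℕ} (σ : Perm (Fin n)) (h : Perm.sign σ = 1) : alternatingGroup (Fin n) :=
  ⟨σ, Perm.mem_alternatingGroup.mpr h⟩

theorem small_unique {n : ℕ} (H : Type) [Group H] [Finite H] (hn : n ≤ 7)
    (hH : Cfsg.IsNonsplitDoubleCover H (alternatingGroup (Fin n))) (x y : H) (hx : orderOf x = 2)
    (hy : orderOf y = 2) : x = y := by
  obtain ⟨hZ, ⟨e⟩, hns⟩ := hH
  let π : H →* alternatingGroup (Fin n) := e.toMonoidHom.comp (QuotientGroup.mk' (Subgroup.center H))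
  have hπ : Function.Surjective π := e.surjective.comp (QuotientGroup.mk'_surjective _)
  have hk : π.ker = Subgroup.center H := by
    ext g
    show e (g : H ⧸ Subgroup.center H) = 1 ↔ _
    rw [map_eq_one_iff e e.injective, QuotientGroup.eq_one_iff]
  suffices key : ∀ w : H, orderOf w = 2 → π w = 1 by
    have hxc : x ∈ Subgroup.center H := hk ▸ key x hx
    have hyc : y ∈ Subgroup.center H := hk ▸ key y hy
    obtain ⟨a, b, hab, huniv⟩ := Nat.card_eq_two_iff.mp hZ
    have h1 : ∀ u : Subgroup.center H, u ≠ 1 → ∀ v : Subgroup.center H, v ≠ 1 → u = v := fun u hu v hv => by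
      have hu' : u ∈ ({a, b} : Set _) := huniv ▸ Set.mem_univ u
      have hv' : v ∈ ({a, b} : Set _) := huniv ▸ Set.mem_univ v
      have h1' : (1 : Subgroup.center H) ∈ ({a, b} : Set _) := huniv ▸ Set.mem_univ _
      rcases hu' with rfl | rfl <;> rcases hv' with rfl | rfl <;> first | rfl | (rcases h1' with e | e <;> simp_all)
    exact congrArg Subtype.val (h1 ⟨x, hxc⟩ (fun e => by rw [Subgroup.mk_eq_one] at e; rw [e, orderOf_one] at hx; omega)
      ⟨y, hyc⟩ (fun e => by rw [Subgroup.mk_eq_one] at e; rw [e, orderOf_one] at hy; omega))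
  intro w hw
  by_contra hne
  have hw2 : orderOf (π w) = 2 := orderOf_eq_prime (by rw [← map_pow, ← hw, pow_orderOf_eq_one, map_one]) hne
  haveI := Fact.mk Nat.prime_two
  have hn4 : 4 ≤ n := by
    by_contra h
    have hd := orderOf_dvd_natCard (π w)
    rw [hw2] at hd
    interval_cases n <;> rw [Nat.card_eq_fintype_card] at hd <;> revert hd <;> decide
  have hinv : ∀ u : H, π u * π u = 1 → π u ≠ 1 → u * u = 1 := by
    intro u h2 h1
    obtain ⟨g, hg⟩ := invol_conj hn hw2 (orderOf_eq_prime (by rw [sq, h2]) h1)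
    obtain ⟨G, rfl⟩ := hπ g
    have hzc : u * (G * w * G⁻¹)⁻¹ ∈ Subgroup.center H := by
      rw [← hk, MonoidHom.mem_ker, map_mul, map_inv, map_mul, map_mul, map_inv, hg, mul_inv_cancel]
    set c := u * (G * w * G⁻¹)⁻¹ with hc
    have hc2 : c * c = 1 := by
      have := congrArg Subtype.val (pow_card_eq_one' (x := (⟨c, hzc⟩ : Subgroup.center H)))
      rw [hZ] at this
      simpa [sq] using this
    have hu : u = c * (G * w * G⁻¹) := by rw [hc, inv_mul_cancel_right]
    have hww : w * w = 1 := by rw [← sq, ← hw, pow_orderOf_eq_one]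
    rw [hu]
    calc c * (G * w * G⁻¹) * (c * (G * w * G⁻¹)) = c * c * (G * w * G⁻¹ * (G * w * G⁻¹)) := by
          rw [mul_assoc, ← mul_assoc (G * w * G⁻¹) c, Subgroup.mem_center_iff.mp hzc (G * w * G⁻¹)]
          simp only [mul_assoc]
      _ = 1 := by rw [hc2, one_mul, show G * w * G⁻¹ * (G * w * G⁻¹) = G * (w * w) * G⁻¹ by group, hww]; group
  have hcomplete : ∀ (m : ℕ) [NeZero m] (r s : alternatingGroup (Fin n)), r ^ m = 1 → s * s = 1 → s * r * s = r⁻¹ →
      (m = 2 ∨ (m = 4 ∧ r * r ≠ 1)) → (∀ i : ℕ, i < m → s ≠ r ^ i) → r ≠ 1 → Odd (Nat.card (alternatingGroup (Fin n)) / (2 * m)) →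
      False := by
    intro m _ r s hr hs hsr hm hsn hr1 hodd
    obtain ⟨j, hjr, hjs⟩ := exists_dihedralHom hr hs hsr
    have hj : Function.Injective j := by
      have hpow : ∀ i : ℕ, i < m → i ≠ 0 → r ^ i ≠ 1 := by
        intro i hi h0
        rcases hm with rfl | ⟨rfl, hrr⟩
        · interval_cases i
          · exact absurd rfl h0
          · rwa [pow_one]
        · interval_cases i
          · exact absurd rfl h0
          · rwa [pow_one]
          · rwa [sq]
          · intro h3
            exact hr1 ((one_mul r).symm.trans ((congrArg (· * r) h3.symm).trans ((pow_succ r 3).symm.trans hr)))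
      have hv : ∀ i : ZMod m, j (.r i) = r ^ i.val := fun i => by
        rw [← hjr, ← map_pow, DihedralGroup.r_one_pow, ZMod.natCast_zmod_val]
      rw [← MonoidHom.ker_eq_bot_iff, Subgroup.eq_bot_iff_forall]
      rintro (i | i) hi <;> rw [MonoidHom.mem_ker] at hi
      · rw [hv] at hi
        by_cases h0 : i.val = 0
        · rw [(ZMod.val_eq_zero i).mp h0]; rfl
        · exact absurd hi (hpow _ (ZMod.val_lt i) h0)
      · exfalso
        rw [show DihedralGroup.sr i = .sr 0 * .r i by rw [DihedralGroup.sr_mul_r, zero_add], map_mul, hjs, hv] at hi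
        refine hsn i.val (ZMod.val_lt i) ?_
        rw [← mul_one s, ← hi, ← mul_assoc, hs, one_mul]
    have hR : ∀ X : H, π X = r → X ^ m = 1 := by
      intro X hX
      rcases hm with rfl | ⟨rfl, hrr⟩
      · rw [sq]; exact hinv X (by rw [hX, ← sq, hr]) (hX ▸ hr1)
      · rw [show X ^ 4 = (X * X) * (X * X) by rw [← sq, ← sq, ← pow_mul]]
        refine hinv _ ?_ ?_
        · rw [map_mul, hX, ← sq, ← sq, ← pow_mul, hr]
        · rw [map_mul, hX]; exact hrr
    obtain ⟨L, hL⟩ := split_of_dihedral π hπ hk hZ hinv r s hR j hj hjr hjs (by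
      have h := j.range.card_mul_index
      rw [← Nat.card_congr (MonoidHom.ofInjective hj).toEquiv, DihedralGroup.nat_card] at h
      rwa [← h, Nat.mul_div_cancel_left _ (by have := NeZero.pos m; omega)] at hodd)
    exact hns L hL
  have hcard : Nat.card (alternatingGroup (Fin n)) = n.factorial / 2 := by
    haveI : Nontrivial (Fin n) := Fin.nontrivial_iff_two_le.mpr (by omega)
    have := two_mul_card_alternatingGroup (α := Fin n)
    rw [Fintype.card_perm, Fintype.card_fin] at this
    rw [Nat.card_eq_fintype_card]; omega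
  interval_cases n
  · exact hcomplete 2 (even_perm (c[(0 : Fin 4), 1] * c[2, 3]) (by decide)) (even_perm (c[(0 : Fin 4), 2] * c[1, 3]) (by decide)) (by decide) (by decide) (by decide)
      (Or.inl rfl) (by decide) (by decide) (by rw [hcard]; decide)
  · exact hcomplete 2 (even_perm (c[(0 : Fin 5), 1] * c[2, 3]) (by decide)) (even_perm (c[(0 : Fin 5), 2] * c[1, 3]) (by decide)) (by decide) (by decide) (by decide)
      (Or.inl rfl) (by decide) (by decide) (by rw [hcard]; decide)
  · exact hcomplete 4 (even_perm (c[(0 : Fin 6), 1, 2, 3] * c[4, 5]) (by decide)) (even_perm (c[(1 : Fin 6), 3] * c[4, 5]) (by decide)) (by decide) (by decide) (by decide)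
      (Or.inr ⟨rfl, by decide⟩) (by decide) (by decide) (by rw [hcard]; decide)
  · exact hcomplete 4 (even_perm (c[(0 : Fin 7), 1, 2, 3] * c[4, 5]) (by decide)) (even_perm (c[(1 : Fin 7), 3] * c[4, 5]) (by decide)) (by decide) (by decide) (by decide)
      (Or.inr ⟨rfl, by decide⟩) (by decide) (by decide) (by rw [hcard]; decide)

theorem eight_two : ∃ (H : Type) (_ : Group H) (_ : Finite H),
    Cfsg.IsNonsplitDoubleCover H (alternatingGroup (Fin 8)) ∧ ∃ x y : H, x ≠ y ∧ orderOf x = 2 ∧ orderOf y = 2 := by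
  obtain ⟨Γ, _, _, z, hz, hzo, hzc, hn, ⟨e⟩⟩ := Cfsg.Agent.S0891.result 8 (by norm_num)
  haveI := Fact.mk Nat.prime_two
  haveI : Nontrivial (alternatingGroup (Fin 8)) :=
    ⟨⟨(even_perm (c[(0 : Fin 8), 1, 2]) (by decide)), 1, by decide⟩⟩
  let π : Γ →* alternatingGroup (Fin 8) := e.toMonoidHom.comp (QuotientGroup.mk' (Subgroup.zpowers z))
  have hπ : Function.Surjective π := e.surjective.comp (QuotientGroup.mk'_surjective _)
  have hk : π.ker = Subgroup.zpowers z := by
    ext g
    show e (g : Γ ⧸ Subgroup.zpowers z) = 1 ↔ _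
    rw [map_eq_one_iff e e.injective, QuotientGroup.eq_one_iff]
  have hcen : Subgroup.center Γ = Subgroup.zpowers z := by
    refine le_antisymm (fun g hg => ?_) (Subgroup.zpowers_le.mpr hz)
    rw [← hk, MonoidHom.mem_ker, ← Subgroup.mem_bot, ← alternatingGroup.center_eq_bot (α := Fin 8) (by simp)]
    exact Subgroup.mem_center_iff.mpr fun a => by
      obtain ⟨A, rfl⟩ := hπ a
      rw [← map_mul, ← map_mul, Subgroup.mem_center_iff.mp hg A]
  have hz2 : z * z = 1 := by rw [← sq, ← hzo, pow_orderOf_eq_one]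
  have hker2 : ∀ g, π g = 1 → g = 1 ∨ g = z := by
    intro g hg
    have : g ∈ Subgroup.zpowers z := hk ▸ hg
    obtain ⟨i, rfl⟩ := Subgroup.mem_zpowers_iff.mp this
    rcases Int.even_or_odd i with ⟨k, rfl⟩ | ⟨k, rfl⟩
    · left; rw [← two_mul, zpow_mul, zpow_ofNat, sq, hz2, one_zpow]
    · right; rw [zpow_add, zpow_mul, zpow_ofNat, sq, hz2, one_zpow, one_mul, zpow_one]
  refine ⟨Γ, inferInstance, inferInstance, ⟨?_, ?_, ?_⟩, ?_⟩
  · rw [hcen, Nat.card_zpowers, hzo]
  · exact ⟨(QuotientGroup.quotientMulEquivOfEq hcen).trans e⟩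
  · intro L hL
    have hle : commutator Γ ≤ L := by
      rw [commutator_def, Subgroup.commutator_le]
      intro a _ b _
      obtain ⟨⟨u, l⟩, hul⟩ := hL.existsUnique a |>.exists
      obtain ⟨⟨v, k⟩, hvk⟩ := hL.existsUnique b |>.exists
      simp only at hul hvk
      have hu := Subgroup.mem_center_iff.mp u.2
      have hv := Subgroup.mem_center_iff.mp v.2
      have : a * b * a⁻¹ * b⁻¹ = (l : Γ) * k * (l : Γ)⁻¹ * (k : Γ)⁻¹ := by
        rw [← hul, ← hvk]
        have e1 : Commute (u : Γ) (l : Γ) := (hu _).symm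
        have e2 : Commute (v : Γ) (l : Γ) := (hv _).symm
        have e3 : Commute (u : Γ) (k : Γ) := (hu _).symm
        have e4 : Commute (v : Γ) (k : Γ) := (hv _).symm
        have e5 : Commute (u : Γ) (v : Γ) := hv _
        rw [mul_inv_rev, mul_inv_rev]
        calc (u : Γ) * l * (v * k) * ((l : Γ)⁻¹ * (u : Γ)⁻¹) * ((k : Γ)⁻¹ * (v : Γ)⁻¹)
            = (u * v) * ((l : Γ) * k * (l : Γ)⁻¹) * ((u : Γ)⁻¹) * ((k : Γ)⁻¹ * (v : Γ)⁻¹) := by
              rw [show (u : Γ) * l * (v * k) = u * (l * v) * k by group, e2.symm.eq]; group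
          _ = (u * v) * (u : Γ)⁻¹ * (((l : Γ) * k * (l : Γ)⁻¹) * (k : Γ)⁻¹) * (v : Γ)⁻¹ := by
              rw [mul_assoc _ ((l : Γ) * k * (l : Γ)⁻¹), ((e1.mul_right e3).mul_right e1.inv_right).inv_left.symm.eq]; group
          _ = (u * v) * (u : Γ)⁻¹ * (v : Γ)⁻¹ * (((l : Γ) * k * (l : Γ)⁻¹) * (k : Γ)⁻¹) := by
              rw [mul_assoc _ _ ((v : Γ)⁻¹), (((e2.mul_right e4).mul_right e2.inv_right).mul_right e4.inv_right).inv_left.symm.eq]; group
          _ = _ := by rw [e5.eq]; group
      rw [commutatorElement_def, this]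
      exact mul_mem (mul_mem (mul_mem l.2 k.2) (inv_mem l.2)) (inv_mem k.2)
    have hzL := hle hzc
    have : z ∈ (Subgroup.center Γ ⊓ L : Subgroup Γ) := ⟨hz, hzL⟩
    rw [hL.disjoint.eq_bot, Subgroup.mem_bot] at this
    rw [this, orderOf_one] at hzo; omega
  · let t1 : alternatingGroup (Fin 8) := (even_perm (c[(0 : Fin 8), 1] * c[2, 3]) (by decide))
    let t2 : alternatingGroup (Fin 8) := (even_perm (c[(4 : Fin 8), 5] * c[6, 7]) (by decide))
    let a : alternatingGroup (Fin 8) := (even_perm (c[(4 : Fin 8), 5, 6]) (by decide))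
    let b : alternatingGroup (Fin 8) := (even_perm (c[(4 : Fin 8), 5, 7]) (by decide))
    let g : alternatingGroup (Fin 8) := (even_perm (c[(0 : Fin 8), 4] * c[1, 5] * c[2, 6] * c[3, 7]) (by decide))
    obtain ⟨T1, h1⟩ := hπ t1
    obtain ⟨A, hA⟩ := hπ a
    obtain ⟨B, hB⟩ := hπ b
    obtain ⟨G, hG⟩ := hπ g
    have hcomm : ∀ X, Commute (π T1) (π X) → ∃ w ∈ Subgroup.center Γ, T1 * X = w * (X * T1) := fun X h => by
      refine ⟨T1 * X * (X * T1)⁻¹, ?_, by rw [inv_mul_cancel_right]⟩
      rw [hcen, ← hk, MonoidHom.mem_ker, map_mul, map_inv, map_mul, map_mul, h.eq, mul_inv_cancel]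
    obtain ⟨wa, hwa, ea⟩ := hcomm A (by rw [h1, hA]; show t1 * a = a * t1; decide)
    obtain ⟨wb, hwb, eb⟩ := hcomm B (by rw [h1, hB]; show t1 * b = b * t1; decide)
    set T2 := A * B * A⁻¹ * B⁻¹ with hT2
    have hT2' : π T2 = t2 := by
      rw [hT2, map_mul, map_mul, map_mul, map_inv, map_inv, hA, hB]; decide
    have hconjA : T1 * A * T1⁻¹ = wa * A := by rw [ea]; group
    have hconjB : T1 * B * T1⁻¹ = wb * B := by rw [eb]; group
    have hcom : T1 * T2 * T1⁻¹ = T2 := by
      have ca := Subgroup.mem_center_iff.mp hwa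
      have cb := Subgroup.mem_center_iff.mp hwb
      have c1 : Commute wa (B * A⁻¹) := (ca _).symm
      have c2 : Commute wb (A⁻¹ * B⁻¹) := (cb _).symm
      calc T1 * T2 * T1⁻¹ = (T1 * A * T1⁻¹) * (T1 * B * T1⁻¹) * (T1 * A * T1⁻¹)⁻¹ * (T1 * B * T1⁻¹)⁻¹ := by
            rw [hT2]; group
        _ = (wa * A) * (wb * B) * (wa * A)⁻¹ * (wb * B)⁻¹ := by rw [hconjA, hconjB]
        _ = wa * (A * wb) * B * A⁻¹ * wa⁻¹ * B⁻¹ * wb⁻¹ := by group
        _ = wa * wb * (A * B * A⁻¹ * wa⁻¹) * B⁻¹ * wb⁻¹ := by rw [cb A]; group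
        _ = wa * wb * wa⁻¹ * (A * B * A⁻¹ * B⁻¹ * wb⁻¹) := by rw [(Subgroup.mem_center_iff.mp (inv_mem hwa) (A * B * A⁻¹))]; group
        _ = wa * wb * wa⁻¹ * wb⁻¹ * T2 := by rw [(Subgroup.mem_center_iff.mp (inv_mem hwb) (A * B * A⁻¹ * B⁻¹))]; rw [hT2]; group
        _ = T2 := by rw [← ca wb]; group
    have hC : ∀ X : Γ, π X * π X = 1 → X * X = 1 ∨ X * X = z := fun X h => hker2 _ (by rw [map_mul, h])
    have hzne : z ≠ 1 := fun h => by rw [h, orderOf_one] at hzo; omega
    obtain ⟨y, hy, hy1⟩ : ∃ y : Γ, y * y = 1 ∧ π y ≠ 1 := by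
      rcases hC T1 (by rw [h1]; decide) with h | h
      · exact ⟨T1, h, by rw [h1]; decide⟩
      rcases hC T2 (by rw [hT2']; decide) with h' | h'
      · exact ⟨T2, h', by rw [hT2']; decide⟩
      refine ⟨T1 * T2, ?_, by rw [map_mul, h1, hT2']; decide⟩
      have hc : T1 * T2 = T2 * T1 := mul_inv_eq_iff_eq_mul.mp hcom
      calc T1 * T2 * (T1 * T2) = T1 * (T2 * T1) * T2 := by group
        _ = T1 * T1 * (T2 * T2) := by rw [← hc]; group
        _ = 1 := by rw [h, h', hz2]
    refine ⟨z, y, fun h => hy1 ?_, hzo, orderOf_eq_prime (by rw [sq, hy]) fun h => hy1 (by rw [h, map_one])⟩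
    rw [← h, ← MonoidHom.mem_ker, hk]
    exact Subgroup.mem_zpowers z

end CfsgAltCover
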