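/-
A central extension of an alternating group with three-cycle lifts satisfying Carmichael's relations.
-/
import Mathlib

set_option autoImplicit false
set_option linter.unusedSectionVars false

namespace CfsgAltCover.Anti

open Equiv

theorem conj_swap' {n : ℕ} (g : Perm (Fin n)) (x y : Fin n) : g * swap x y * g⁻¹ = swap (g x) (g y) := by
  rw [mul_inv_eq_iff_eq_mul, Equiv.mul_swap_eq_swap_mul]

theorem carmichael {Γ : Type*} [Group Γ] [Finite Γ] {n : ℕ} (hn : 2 ≤ n) (π : Γ →* Perm (Fin n))
    (hrange' : ∀ g, Perm.sign (π g) = 1) (X : Fin n → Γ)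
    (hX3 : ∀ i, X i * X i * X i = 1)
    (hXπ : ∀ i : Fin n, i ≠ ⟨0, by omega⟩ ∧ i ≠ ⟨1, by omega⟩ →
      π (X i) = swap ⟨0, by omega⟩ ⟨1, by omega⟩ * swap ⟨1, by omega⟩ i)
    (hXX' : ∀ i j : Fin n, (i ≠ ⟨0, by omega⟩ ∧ i ≠ ⟨1, by omega⟩) → (j ≠ ⟨0, by omega⟩ ∧ j ≠ ⟨1, by omega⟩) →
      i ≠ j → X j * X i = X i * X i * (X j * X j)) :
    ∃ K : Subgroup Γ, 2 * Nat.card K ≤ n.factorial ∧ ∀ σ : Perm (Fin n), Perm.sign σ = 1 → σ ∈ K.map π := by
  classical
  set a : Fin n := ⟨0, by omega⟩ with ha
  set b : Fin n := ⟨1, by omega⟩ with hb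
  let Good : Fin n → Prop := fun i => i ≠ a ∧ i ≠ b
  set x : Fin n → Perm (Fin n) := fun i => swap a b * swap b i with hx
  have hab : a ≠ b := by simp [ha, hb, Fin.ext_iff]
  have hxa : ∀ i, Good i → x i a = b := fun i hi => by
    simp [hx, swap_apply_of_ne_of_ne hab hi.1.symm]
  have hxb : ∀ i, Good i → x i b = i := fun i hi => by
    simp [hx, swap_apply_of_ne_of_ne hi.1 hi.2]
  have hxi : ∀ i, Good i → x i i = a := fun i hi => by simp [hx]
  have hxo : ∀ i, ∀ p, p ≠ a → p ≠ b → p ≠ i → x i p = p := fun i p h1 h2 h3 => by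
    simp [hx, swap_apply_of_ne_of_ne h2 h3, swap_apply_of_ne_of_ne h1 h2]
  obtain ⟨z, hz1⟩ : ∃ z : Γ, z = 1 := ⟨1, rfl⟩
  have hzk : z ∈ π.ker := hz1 ▸ one_mem _
  have hz2 : z * z = 1 := by rw [hz1, mul_one]
  have hcen : ∀ c ∈ ({z} : Set Γ), ∀ g : Γ, g * c = c * g := by
    rintro c rfl g; rw [hz1, mul_one, one_mul]
  have hXX : ∀ i j, Good i → Good j → i ≠ j → X j * X i = z * (X i * X i) * (X j * X j) := fun i j hi hj hij => by
    rw [hz1, one_mul]; exact hXX' i j hi hj hij
  -- the subgroups
  let S : ℕ → Set Γ := fun m => insert z (X '' {i | Good i ∧ (i : ℕ) < m})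
  let H : ℕ → Subgroup Γ := fun m => Subgroup.closure (S m)
  have hzH : ∀ m, z ∈ H m := fun m => Subgroup.subset_closure (Set.mem_insert _ _)
  have hXH : ∀ m i, Good i → (i : ℕ) < m → X i ∈ H m := fun m i hi hm =>
    Subgroup.subset_closure (Set.mem_insert_of_mem _ ⟨i, ⟨hi, hm⟩, rfl⟩)
  have hcount : ∀ m, 2 ≤ m → m ≤ n → 2 * Nat.card (H m) ≤ m.factorial ∧
      ∀ σ : Perm (Fin n), Perm.sign σ = 1 → (∀ p : Fin n, m ≤ (p : ℕ) → σ p = p) → σ ∈ (H m).map π := by
    intro m hm2
    induction m, hm2 using Nat.le_induction with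
    | base =>
      intro _
      refine ⟨?_, fun σ hs hfix => ?_⟩
      · have hle : H 2 ≤ Subgroup.zpowers z := by
          refine (Subgroup.closure_le _).2 ?_
          rintro w (rfl | ⟨i, ⟨hi, hi2⟩, rfl⟩)
          · exact Subgroup.mem_zpowers _
          · exfalso
            have h1 : (i : ℕ) ≠ 0 := fun e => hi.1 (Fin.ext (by rw [e, ha]))
            have h2 : (i : ℕ) ≠ 1 := fun e => hi.2 (Fin.ext (by rw [e, hb]))
            omega
        have h1 := Nat.le_of_dvd Nat.card_pos (Subgroup.card_dvd_of_le hle)
        rw [Nat.card_zpowers, hz1, orderOf_one] at h1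
        simp [Nat.factorial]; omega
      · have hσ : σ = 1 := by
          have hcases : σ a = a ∨ σ a = b := by
            by_contra h
            push_neg at h
            have h2 : 2 ≤ (σ a : ℕ) := by
              have h1 : (σ a : ℕ) ≠ 0 := fun e => h.1 (Fin.ext (by rw [e, ha]))
              have h2 : (σ a : ℕ) ≠ 1 := fun e => h.2 (Fin.ext (by rw [e, hb]))
              omega
            exact h.1 (σ.injective (hfix _ h2))
          have hrest : ∀ p, p ≠ a → p ≠ b → σ p = p := fun p h1 h2 => hfix p (by
            have h1' : (p : ℕ) ≠ 0 := fun e => h1 (Fin.ext (by rw [e, ha]))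
            have h2' : (p : ℕ) ≠ 1 := fun e => h2 (Fin.ext (by rw [e, hb]))
            omega)
          rcases hcases with h | h
          · refine Equiv.ext fun p => ?_
            rw [Perm.one_apply]
            by_cases h1 : p = a
            · rw [h1, h]
            by_cases h2 : p = b
            · subst h2
              by_contra hne
              have hσb : σ b ≠ a := fun e => hab.symm (σ.injective (e.trans h.symm))
              exact hne (σ.injective (hrest _ hσb hne))
            exact hrest p h1 h2
          · exfalso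
            have hσ' : σ = swap a b := by
              refine Equiv.ext fun p => ?_
              by_cases h1 : p = a
              · rw [h1, h, swap_apply_left]
              by_cases h2 : p = b
              · subst h2
                rw [swap_apply_right]
                by_contra hne
                have hσb : σ b ≠ b := fun e => hab (σ.injective (h.trans e.symm))
                exact hσb (σ.injective (hrest _ hne hσb))
              rw [swap_apply_of_ne_of_ne h1 h2, hrest p h1 h2]
            rw [hσ', Perm.sign_swap hab] at hs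
            exact absurd hs (by decide)
        exact ⟨1, one_mem _, by rw [map_one, hσ]⟩
    | succ m hm2 ih =>
      intro hmn
      obtain ⟨ih1, ih2⟩ := ih (by omega)
      set p : Fin n := ⟨m, by omega⟩ with hp
      have hgp : Good p := by constructor <;> (simp [ha, hb, hp, Fin.ext_iff]; omega)
      have hne : ∀ i : Fin n, (i : ℕ) < m → i ≠ p := fun i hi e => by rw [e, hp] at hi; simp at hi
      set u := X p with hu
      have hu3 : u * u * u = 1 := hX3 p
      have hsub : H m ≤ H (m + 1) := Subgroup.closure_mono (by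
        rintro w (rfl | ⟨i, ⟨hi, hi2⟩, rfl⟩)
        · exact Set.mem_insert _ _
        · exact Set.mem_insert_of_mem _ ⟨i, ⟨hi, Nat.lt_succ_of_lt hi2⟩, rfl⟩)
      let J := {i : Fin n // Good i ∧ (i : ℕ) < m}
      let rep : Fin 3 ⊕ J → Γ := fun s => Sum.elim (fun k : Fin 3 => u ^ (k : ℕ)) (fun i : J => u * u * X i.1) s
      let U : Set Γ := {g | ∃ h ∈ H m, ∃ s, g = h * rep s}
      have hUmul : ∀ (k : Γ), k ∈ H m → ∀ g ∈ U, k * g ∈ U := by
        rintro k hk _ ⟨h, hh, s, rfl⟩
        exact ⟨k * h, mul_mem hk hh, s, (mul_assoc _ _ _).symm⟩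
      have hbase : ∀ s, rep s ∈ U := fun s => ⟨1, one_mem _, s, (one_mul _).symm⟩
      have hr0 : rep (Sum.inl 0) = 1 := pow_zero u
      have hr1 : rep (Sum.inl 1) = u := pow_one u
      have hr2 : rep (Sum.inl 2) = u * u := pow_two u
      have hzc := hcen z (Set.mem_singleton z)
      have hstepX : ∀ i : J, ∀ s, rep s * X i.1 ∈ U := by
        rintro ⟨i, hi, him⟩ (k | ⟨j, hj, hjm⟩)
        · fin_cases k
          · refine ⟨X i, hXH m i hi him, Sum.inl 0, ?_⟩
            show u ^ 0 * X i = X i * rep (Sum.inl 0)
            rw [hr0, pow_zero, mul_one, one_mul]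
          · refine ⟨z * (X i * X i), mul_mem (hzH m) (mul_mem (hXH m i hi him) (hXH m i hi him)), Sum.inl 2, ?_⟩
            show u ^ 1 * X i = _
            rw [hr2, pow_one, hu, hXX i p hi hgp (hne i him)]
          · show u ^ 2 * X i ∈ U
            rw [pow_two]
            exact hbase (Sum.inr ⟨i, hi, him⟩)
        · show u * u * X j * X i ∈ U
          by_cases hij : i = j
          · subst hij
            refine ⟨z * X i, mul_mem (hzH m) (hXH m i hi him), Sum.inl 1, ?_⟩
            rw [hr1]
            have e := hXX p i hgp hi (Ne.symm (hne i him))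
            -- `X i * u = z * u² * X i²`
            calc u * u * X i * X i = (z * z) * (u * u * (X i * X i)) := by rw [hz2, one_mul]; group
              _ = z * (z * (u * u) * (X i * X i)) := by group
              _ = z * (X i * u) := by rw [hu, e]
              _ = z * X i * u := (mul_assoc _ _ _).symm
          · have e1 := hXX i j hi hj hij
            have e2 := hXX p i hgp hi (Ne.symm (hne i him))
            have e3 := hXX j p hj hgp (hne j hjm)
            refine ⟨X i * (z * (X j * X j)), mul_mem (hXH m i hi him) (mul_mem (hzH m) (mul_mem (hXH m j hj hjm) (hXH m j hj hjm))),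
              Sum.inr ⟨j, hj, hjm⟩, ?_⟩
            show _ = _ * (u * u * X j)
            calc u * u * X j * X i = u * u * (z * (X i * X i) * (X j * X j)) := by rw [mul_assoc (u * u), e1]
              _ = (z * (u * u) * (X i * X i)) * (X j * X j) := by
                rw [← mul_assoc (u * u), ← mul_assoc (u * u), hzc (u * u)]
              _ = X i * u * (X j * X j) := by rw [hu, e2]
              _ = X i * ((u * X j) * X j) := by group
              _ = X i * ((z * (X j * X j) * (u * u)) * X j) := by rw [hu, e3]
              _ = _ := by group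
      have hstepu : ∀ s, rep s * u ∈ U := by
        rintro (k | ⟨j, hj, hjm⟩)
        · fin_cases k
          · refine ⟨1, one_mem _, Sum.inl 1, ?_⟩
            show u ^ 0 * u = 1 * rep (Sum.inl 1)
            rw [hr1, pow_zero]
          · refine ⟨1, one_mem _, Sum.inl 2, ?_⟩
            show u ^ 1 * u = 1 * rep (Sum.inl 2)
            rw [hr2, pow_one, one_mul]
          · refine ⟨1, one_mem _, Sum.inl 0, ?_⟩
            show u ^ 2 * u = 1 * rep (Sum.inl 0)
            rw [hr0, pow_two, hu3, one_mul]
        · show u * u * X j * u ∈ U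
          have e1 := hXX p j hgp hj (Ne.symm (hne j hjm))
          have e3 := hXX j p hj hgp (hne j hjm)
          refine ⟨(z * z) * (X j * X j), mul_mem (mul_mem (hzH m) (hzH m)) (mul_mem (hXH m j hj hjm) (hXH m j hj hjm)),
            Sum.inr ⟨j, hj, hjm⟩, ?_⟩
          show _ = _ * (u * u * X j)
          calc u * u * X j * u = u * u * (z * (u * u) * (X j * X j)) := by rw [mul_assoc (u * u), hu, e1]
            _ = z * (u * u) * (u * u) * (X j * X j) := by
              rw [← mul_assoc (u * u), ← mul_assoc (u * u), hzc (u * u)]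
            _ = z * (u * X j) * X j := by
              rw [show z * (u * u) * (u * u) = z * ((u * u * u) * u) by group, hu3, one_mul]; group
            _ = z * (z * (X j * X j) * (u * u)) * X j := by rw [hu, e3]
            _ = _ := by group
      have hsubU : ∀ g ∈ H (m + 1), g ∈ U := by
        have hS : ∀ y ∈ S (m + 1), ∀ g ∈ U, g * y ∈ U := by
          rintro y hy _ ⟨h, hh, s, rfl⟩
          rw [mul_assoc]
          refine hUmul h hh _ ?_
          rcases hy with hyz | ⟨i, ⟨hi, hi2⟩, rfl⟩
          · rw [hyz, hzc (rep s)]; exact hUmul z (hzH m) _ (hbase s)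
          · rcases (Nat.lt_succ_iff.1 hi2).lt_or_eq with h' | h'
            · exact hstepX ⟨i, hi, h'⟩ s
            · rw [show i = p from Fin.ext h']; exact hstepu s
        have hS2 : ∀ y ∈ S (m + 1), ∀ g ∈ U, g * y⁻¹ ∈ U := by
          intro y hy g hg
          rcases hy with hyz | ⟨i, hi, rfl⟩
          · rw [hyz, inv_eq_of_mul_eq_one_left hz2]
            exact hS _ (Set.mem_insert _ _) g hg
          · rw [← eq_inv_of_mul_eq_one_left (hX3 i), ← mul_assoc]
            exact hS _ (Set.mem_insert_of_mem _ ⟨i, hi, rfl⟩) _ (hS _ (Set.mem_insert_of_mem _ ⟨i, hi, rfl⟩) g hg)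
        intro g hg
        induction hg using Subgroup.closure_induction_right with
        | one => exact ⟨1, one_mem _, Sum.inl 0, by rw [hr0, one_mul]⟩
        | mul_right g hg y hy ihg => exact hS y hy g ihg
        | mul_inv_cancel g hg y hy ihg => exact hS2 y hy g ihg
      have hJcard : Nat.card J ≤ m - 2 := by
        let F : J → Fin (m - 2) := fun i => ⟨(i.1 : ℕ) - 2, by
          have h1 : (i.1 : ℕ) ≠ 0 := fun e => i.2.1.1 (Fin.ext (by rw [e, ha]))
          have h2 : (i.1 : ℕ) ≠ 1 := fun e => i.2.1.2 (Fin.ext (by rw [e, hb]))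
          have := i.2.2
          omega⟩
        have hF : Function.Injective F := fun i k e => Subtype.ext (Fin.ext (by
          have e' := congrArg Fin.val e
          simp only [F] at e'
          have h1 : (i.1 : ℕ) ≠ 0 := fun e => i.2.1.1 (Fin.ext (by rw [e, ha]))
          have h2 : (i.1 : ℕ) ≠ 1 := fun e => i.2.1.2 (Fin.ext (by rw [e, hb]))
          have h3 : (k.1 : ℕ) ≠ 0 := fun e => k.2.1.1 (Fin.ext (by rw [e, ha]))
          have h4 : (k.1 : ℕ) ≠ 1 := fun e => k.2.1.2 (Fin.ext (by rw [e, hb]))
          omega))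
        simpa using Nat.card_le_card_of_injective F hF
      constructor
      · let G' : H m × (Fin 3 ⊕ J) → H (m + 1) := fun hs => ⟨hs.1 * rep hs.2, mul_mem (hsub hs.1.2) (by
          obtain ⟨-, s⟩ := hs
          rcases s with k | i
          · exact pow_mem (hXH _ p hgp (by simp [hp])) _
          · exact mul_mem (mul_mem (hXH _ p hgp (by simp [hp])) (hXH _ p hgp (by simp [hp])))
              (hXH _ i.1 i.2.1 (Nat.lt_succ_of_lt i.2.2)))⟩
        have hG' : Function.Surjective G' := fun g => by
          obtain ⟨h, hh, s, hgs⟩ := hsubU g g.2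
          exact ⟨(⟨h, hh⟩, s), Subtype.ext hgs.symm⟩
        refine (Nat.mul_le_mul_left 2 (Nat.card_le_card_of_surjective G' hG')).trans ?_
        rw [Nat.card_prod, Nat.card_sum, Nat.card_fin, Nat.factorial_succ, mul_comm (m + 1), ← mul_assoc]
        exact Nat.mul_le_mul ih1 (by omega)
      · intro σ hs hfix
        -- a representative moving `p` to `σ p`
        obtain ⟨g, hg, hgp'⟩ : ∃ g ∈ H (m + 1), π g p = σ p := by
          have hpm := hXH (m + 1) p hgp (by simp [hp])
          by_cases h0 : σ p = p
          · exact ⟨1, one_mem _, by rw [map_one, h0, Perm.one_apply]⟩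
          have hlt : (σ p : ℕ) < m := by
            have h1 : (σ p : ℕ) < m + 1 := by
              by_contra h
              exact h0 (σ.injective (hfix _ (not_lt.1 h)))
            have h2 : (σ p : ℕ) ≠ m := fun e => h0 (Fin.ext e)
            omega
          by_cases h1 : σ p = a
          · exact ⟨u, hpm, by rw [hu, hXπ p hgp, hxi p hgp, h1]⟩
          by_cases h2 : σ p = b
          · exact ⟨u * u, mul_mem hpm hpm, by rw [map_mul, Perm.mul_apply, hu, hXπ p hgp, hxi p hgp, hxa p hgp, h2]⟩
          · refine ⟨X (σ p) * (u * u), mul_mem (hXH (m + 1) _ ⟨h1, h2⟩ (Nat.lt_succ_of_lt hlt)) (mul_mem hpm hpm), ?_⟩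
            rw [map_mul π (X (σ p)) (u * u), map_mul π u u, Perm.mul_apply, Perm.mul_apply, hu, hXπ p hgp, hXπ _ ⟨h1, h2⟩, hxi p hgp, hxa p hgp,
              hxb _ ⟨h1, h2⟩]
        have hgfix' : ∀ g ∈ H (m + 1), ∀ q : Fin n, m + 1 ≤ (q : ℕ) → π g q = q := by
          intro g hg q hq
          induction hg using Subgroup.closure_induction with
          | mem y hy =>
            rcases hy with rfl | ⟨i, ⟨hi, hi2⟩, rfl⟩
            · rw [MonoidHom.mem_ker.1 hzk, Perm.one_apply]
            · rw [hXπ i hi, hxo i q ?_ ?_ ?_]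
              · intro e; rw [e, ha] at hq; simp at hq
              · intro e; rw [e, hb] at hq; simp at hq; omega
              · intro e; rw [e] at hq; omega
          | one => simp
          | mul y w _ _ hy hw => rw [map_mul, Perm.mul_apply, hw, hy]
          | inv y _ hy => rw [map_inv, Perm.inv_eq_iff_eq, hy]
        have hgfix := hgfix' g hg
        obtain ⟨h, hh, hhσ⟩ := ih2 ((π g)⁻¹ * σ) (by rw [map_mul, map_inv, hrange', hs, inv_one, one_mul]) (fun q hq => by
          rw [Perm.mul_apply, Perm.inv_eq_iff_eq]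
          rcases hq.lt_or_eq with h' | h'
          · rw [hfix q h', hgfix q h']
          · rw [show q = p from Fin.ext h'.symm, hgp'])
        exact ⟨g * h, mul_mem hg (hsub hh), by rw [map_mul, hhσ, mul_inv_cancel_left]⟩
  obtain ⟨hcard, honto⟩ := hcount n hn le_rfl
  exact ⟨H n, hcard, fun σ hσ => honto σ hσ (fun q hq => absurd q.2 (not_lt.2 hq))⟩

end CfsgAltCover.Anti
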