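/-
Every even permutation is a product of two permutations of one cycle type containing two transpositions.
-/
import Mathlib

set_option autoImplicit false
set_option linter.unusedSectionVars false
set_option linter.style.haveILetI false

namespace CfsgAltCover.Ore

open Equiv Equiv.Perm

variable {α : Type*} [Fintype α] [DecidableEq α]

/-- `a` exchanges two disjoint pairs. -/
def HasPairs (a : Perm α) : Prop :=
  ∃ p q r s : α, a p = q ∧ a q = p ∧ a r = s ∧ a s = r ∧ p ≠ q ∧ r ≠ s ∧ p ≠ r ∧ p ≠ s ∧ q ≠ r ∧ q ≠ s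

/-- `g` is `a` times a permutation of the type of `a`, with `a` even and exchanging two pairs. -/
def Good (g : Perm α) : Prop :=
  ∃ a : Perm α, sign a = 1 ∧ HasPairs a ∧ (a⁻¹ * g).cycleType = a.cycleType

/-- An involution inverting `g` inside its support. -/
def Refl (g a : Perm α) : Prop := a * a = 1 ∧ (a * g) * (a * g) = 1 ∧ a.support ⊆ g.support

theorem invol_type {a : Perm α} (h : a * a = 1) :
    ∃ k, a.cycleType = Multiset.replicate k 2 ∧ a.support.card = 2 * k ∧ sign a = (-1 : ℤˣ) ^ k := by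
  have hall : ∀ x ∈ a.cycleType, x = 2 := fun x hx => by
    have h1 := (dvd_of_mem_cycleType hx).trans (orderOf_dvd_of_pow_eq_one (show a ^ 2 = 1 by rw [sq, h]))
    have h2 := two_le_of_mem_cycleType hx
    rcases (Nat.dvd_prime Nat.prime_two).mp h1 with e | e <;> omega
  have hrep := Multiset.eq_replicate_card.mpr hall
  refine ⟨Multiset.card a.cycleType, hrep, ?_, ?_⟩
  · rw [← sum_cycleType, hrep, Multiset.sum_replicate, Multiset.card_replicate, smul_eq_mul, mul_comm]
  · rw [sign_of_cycleType, hrep, Multiset.sum_replicate, Multiset.card_replicate, smul_eq_mul, pow_add, pow_mul]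
    simp [mul_comm]

theorem refl_support {g a : Perm α} (h : Refl g a) : (a * g).support ⊆ g.support :=
  (support_mul_le a g).trans (Finset.union_subset h.2.2 (le_refl _))

theorem refl_mul {g₁ g₂ a₁ a₂ : Perm α} (hd : Disjoint g₁ g₂) (h₁ : Refl g₁ a₁) (h₂ : Refl g₂ a₂) :
    Refl (g₁ * g₂) (a₁ * a₂) ∧ (a₁ * a₂).support.card = a₁.support.card + a₂.support.card ∧
      (a₁ * a₂ * (g₁ * g₂)).support.card = (a₁ * g₁).support.card + (a₂ * g₂).support.card := by
  have hds : _root_.Disjoint g₁.support g₂.support := disjoint_iff_disjoint_support.mp hd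
  have mono : ∀ {x y : Perm α}, x.support ⊆ g₁.support → y.support ⊆ g₂.support → Disjoint x y := fun hx hy =>
    disjoint_iff_disjoint_support.mpr (Finset.disjoint_of_subset_left hx (Finset.disjoint_of_subset_right hy hds))
  have e : a₁ * a₂ * (g₁ * g₂) = (a₁ * g₁) * (a₂ * g₂) :=
    (mono (le_refl g₁.support) h₂.2.2).commute.symm.mul_mul_mul_comm a₁ g₂
  have hb := mono (refl_support h₁) (refl_support h₂)
  refine ⟨⟨?_, ?_, ?_⟩, (mono h₁.2.2 h₂.2.2).card_support_mul, by rw [e, hb.card_support_mul]⟩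
  · rw [(mono h₁.2.2 h₂.2.2).commute.symm.mul_mul_mul_comm, h₁.1, h₂.1, one_mul]
  · rw [e, hb.commute.symm.mul_mul_mul_comm, h₁.2.1, h₂.2.1, one_mul]
  · rw [(mono h₁.2.2 h₂.2.2).support_mul, hd.support_mul]
    exact Finset.union_subset_union h₁.2.2 h₂.2.2

theorem card_fixed {β : Type*} [Fintype β] [DecidableEq β] (a : Perm β) :
    a.support.card + (Finset.univ.filter fun x => a x = x).card = Fintype.card β := by
  rw [← Finset.card_univ,
    ← Finset.card_filter_add_card_filter_not (s := (Finset.univ : Finset β)) (fun x => a x ≠ x)]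
  simp only [not_not]
  rfl

/-- Copying a configuration along an injection. -/
theorem transport {β : Type*} [Fintype β] [DecidableEq β] (f : β → α) (hf : Function.Injective f) (r₀ a₀ : Perm β)
    (g : Perm α) (hg : ∀ x, g (f x) = f (r₀ x)) (hsupp : g.support = Finset.univ.image f)
    (h1 : a₀ * a₀ = 1) (h2 : a₀ * r₀ * (a₀ * r₀) = 1) :
    ∃ a, Refl g a ∧ a.support.card = a₀.support.card ∧ (a * g).support.card = (a₀ * r₀).support.card := by
  let e : β ≃ {y // y ∈ Set.range f} := Equiv.ofInjective f hf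
  have hge : g = r₀.extendDomain e := by
    ext y
    by_cases hy : y ∈ Set.range f
    · obtain ⟨x, rfl⟩ := hy
      rw [hg]
      exact (extendDomain_apply_image r₀ e x).symm
    · rw [extendDomain_apply_not_subtype _ _ hy]
      by_contra hne
      have : y ∈ g.support := mem_support.mpr hne
      rw [hsupp, Finset.mem_image] at this
      obtain ⟨x, -, hx⟩ := this
      exact hy ⟨x, hx⟩
  refine ⟨a₀.extendDomain e, ⟨?_, ?_, ?_⟩, card_support_extend_domain e, ?_⟩
  · rw [extendDomain_mul, h1, extendDomain_one]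
  · rw [hge, extendDomain_mul, extendDomain_mul, h2, extendDomain_one]
  · intro y hy
    rw [hsupp, Finset.mem_image]
    by_contra hne
    push Not at hne
    refine mem_support.mp hy (extendDomain_apply_not_subtype _ _ ?_)
    rintro ⟨x, hx⟩
    exact hne x (Finset.mem_univ _) hx
  · rw [hge, extendDomain_mul, card_support_extend_domain e]

theorem cycle_param {c : Perm α} (hc : IsCycle c) {m : ℕ} [NeZero m] (hm : c.support.card = m) :
    ∃ f : ZMod m → α, Function.Injective f ∧ (∀ x, c (f x) = f (x + 1)) ∧ c.support = Finset.univ.image f := by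
  have h2 : 2 ≤ m := hm ▸ hc.two_le_card_support
  haveI : Fact (1 < m) := ⟨h2⟩
  let r : Perm (ZMod m) := Equiv.addRight 1
  have hr : IsCycle r := by
    refine ⟨0, by simp [r], fun y _ => ⟨(y.val : ℤ), ?_⟩⟩
    rw [zpow_natCast]
    have : ∀ k : ℕ, (r ^ k) (0 : ZMod m) = (k : ZMod m) := fun k => by
      induction k with
      | zero => simp
      | succ k ih =>
        rw [pow_succ', Perm.mul_apply, ih, Nat.cast_succ]
        rfl
    rw [this, ZMod.natCast_zmod_val]
  have hrs : r.support = Finset.univ := Finset.eq_univ_of_forall fun x => mem_support.mpr (by simp [r])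
  let e : ZMod m ≃ {y // y ∈ c.support} := Fintype.equivOfCardEq (by rw [ZMod.card, Fintype.card_coe, hm])
  have hct : (r.extendDomain e).cycleType = c.cycleType := by
    rw [cycleType_extendDomain, hr.cycleType, hc.cycleType, hrs, hm, Finset.card_univ, ZMod.card]
  obtain ⟨σ, hσ⟩ := isConj_iff.mp (isConj_iff_cycleType_eq.mpr hct)
  let f : ZMod m → α := fun x => σ (e x)
  have hf : Function.Injective f := σ.injective.comp (Subtype.val_injective.comp e.injective)
  have hmove : ∀ x, c (f x) = f (x + 1) := fun x => by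
    rw [← hσ]
    simp only [f, Perm.mul_apply, Perm.inv_def, Equiv.symm_apply_apply, extendDomain_apply_image]
    rfl
  refine ⟨f, hf, hmove, Finset.eq_of_subset_of_card_le ?_ ?_ |>.symm⟩
  · intro y hy
    obtain ⟨x, -, rfl⟩ := Finset.mem_image.mp hy
    rw [mem_support, hmove]
    exact fun h => by simpa using hf h
  · rw [hm, Finset.card_image_of_injective _ hf, Finset.card_univ, ZMod.card]

theorem fix_odd {m : ℕ} [NeZero m] (hm : Odd m) (j : ZMod m) :
    (Finset.univ.filter fun x => (Equiv.subLeft j) x = x).card = 1 := by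
  have hu : IsUnit (2 : ZMod m) := by
    have := (ZMod.unitOfCoprime 2 (Nat.coprime_two_left.mpr hm)).isUnit
    simpa using this
  obtain ⟨u, hu⟩ := hu
  rw [Finset.card_eq_one]
  refine ⟨↑u⁻¹ * j, ?_⟩
  ext x
  simp only [Finset.mem_filter, Finset.mem_univ, true_and, Finset.mem_singleton, Equiv.subLeft_apply, sub_eq_iff_eq_add]
  rw [← two_mul, ← hu, Units.eq_inv_mul_iff_mul_eq, eq_comm]

theorem fix_even {m : ℕ} [NeZero m] (h : ℕ) (hm : m = 2 * h) :
    (Finset.univ.filter fun x : ZMod m => (Equiv.subLeft (0 : ZMod m)) x = x).card = 2 ∧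
    (Finset.univ.filter fun x : ZMod m => (Equiv.subLeft (1 : ZMod m)) x = x).card = 0 ∧
    (Finset.univ.filter fun x : ZMod m => (Equiv.subLeft (-1 : ZMod m)) x = x).card = 0 := by
  have h0 : 0 < h := by have := NeZero.pos m; omega
  let π : ZMod m →+* ZMod 2 := ZMod.castHom ⟨h, hm⟩ (ZMod 2)
  have hodd : ∀ j : ZMod m, π j = 1 → (Finset.univ.filter fun x : ZMod m => (Equiv.subLeft j) x = x).card = 0 := by
    intro j hj
    rw [Finset.card_eq_zero, Finset.filter_eq_empty_iff]
    intro x _ hx
    rw [Equiv.subLeft_apply, sub_eq_iff_eq_add] at hx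
    have := congrArg π hx
    rw [map_add, hj, CharTwo.add_self_eq_zero] at this
    exact one_ne_zero this
  refine ⟨?_, hodd 1 (map_one π), hodd (-1) (by rw [map_neg, map_one]; rfl)⟩
  rw [Finset.card_eq_two]
  refine ⟨0, (h : ZMod m), fun e => ?_, ?_⟩
  · have := congrArg ZMod.val e
    rw [ZMod.val_zero, ZMod.val_natCast_of_lt (by omega)] at this
    omega
  · ext x
    simp only [Finset.mem_filter, Finset.mem_univ, true_and, Finset.mem_insert, Finset.mem_singleton,
      Equiv.subLeft_apply, sub_eq_iff_eq_add]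
    constructor
    · intro hx
      rw [← ZMod.natCast_zmod_val x, ← Nat.cast_add, eq_comm, ZMod.natCast_eq_zero_iff] at hx
      have hlt := ZMod.val_lt x
      obtain ⟨t, ht⟩ := hx
      have : t < 2 := by
        by_contra hge
        have := Nat.mul_le_mul_left m (not_lt.mp hge)
        omega
      interval_cases t
      · left; rw [← ZMod.natCast_zmod_val x, show x.val = 0 by omega, Nat.cast_zero]
      · right; rw [← ZMod.natCast_zmod_val x, show x.val = h by omega]
    · rintro (rfl | rfl)
      · simp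
      · rw [← Nat.cast_add, ← two_mul, ← hm, ZMod.natCast_self]

theorem subLeft_mul_addRight {m : ℕ} (j : ZMod m) :
    (Equiv.subLeft j : Perm (ZMod m)) * Equiv.addRight 1 = Equiv.subLeft (j - 1) := by
  ext x
  simp only [Perm.mul_apply, Equiv.coe_addRight, Equiv.subLeft_apply]
  ring

/-- Reflections of a cycle: moved points of the reflection and of its product with the cycle. -/
theorem cycle_refl {c : Perm α} (hc : IsCycle c) :
    (Odd c.support.card → ∃ a, Refl c a ∧ a.support.card + 1 = c.support.card ∧ (a * c).support.card + 1 = c.support.card) ∧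
    (Even c.support.card → (∃ a, Refl c a ∧ a.support.card + 2 = c.support.card ∧ (a * c).support.card = c.support.card) ∧
      ∃ a, Refl c a ∧ a.support.card = c.support.card ∧ (a * c).support.card + 2 = c.support.card) := by
  obtain ⟨m, hm⟩ : ∃ m, c.support.card = m := ⟨_, rfl⟩
  have h2 : 2 ≤ m := hm ▸ hc.two_le_card_support
  haveI : NeZero m := ⟨by omega⟩
  obtain ⟨f, hf, hmove, hs⟩ := cycle_param hc hm
  have key : ∀ j : ZMod m, ∃ a, Refl c a ∧
      a.support.card + (Finset.univ.filter fun x => (Equiv.subLeft j) x = x).card = m ∧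
      (a * c).support.card + (Finset.univ.filter fun x => (Equiv.subLeft (j - 1)) x = x).card = m := by
    intro j
    have hinv : ∀ j : ZMod m, (Equiv.subLeft j : Perm (ZMod m)) * Equiv.subLeft j = 1 := fun j => by
      ext x; simp
    obtain ⟨a, ha, h1, h2⟩ := transport f hf (Equiv.addRight 1) (Equiv.subLeft j) c hmove hs (hinv j)
      (by rw [subLeft_mul_addRight]; exact hinv _)
    refine ⟨a, ha, ?_, ?_⟩
    · rw [h1, card_fixed, ZMod.card]
    · rw [h2, subLeft_mul_addRight, card_fixed, ZMod.card]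
  rw [hm]
  refine ⟨fun ho => ?_, fun he => ?_⟩
  · obtain ⟨a, ha, h1, h2⟩ := key 0
    rw [fix_odd ho] at h1 h2
    exact ⟨a, ha, h1, h2⟩
  · obtain ⟨h, hh⟩ := he
    obtain ⟨e0, e1, e2⟩ := fix_even (m := m) h (by omega)
    constructor
    · obtain ⟨a, ha, h1, h2⟩ := key 0
      rw [e0] at h1
      rw [zero_sub, e2] at h2
      exact ⟨a, ha, h1, by simpa using h2⟩
    · obtain ⟨a, ha, h1, h2⟩ := key 1
      rw [e1] at h1
      rw [sub_self, e0] at h2
      exact ⟨a, ha, by simpa using h1, h2⟩

/-- A reflection exchanging two cycles of one length. -/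
theorem pair_refl {c d : Perm α} (hc : IsCycle c) (hd : IsCycle d) (hdis : Disjoint c d)
    (he : c.support.card = d.support.card) : ∃ a, Refl (c * d) a ∧ a.support.card = 2 * c.support.card ∧
      (a * (c * d)).support.card = 2 * c.support.card := by
  obtain ⟨m, hm⟩ : ∃ m, c.support.card = m := ⟨_, rfl⟩
  haveI : NeZero m := ⟨by have := hm ▸ hc.two_le_card_support; omega⟩
  obtain ⟨f, hf, hfm, hfs⟩ := cycle_param hc hm
  obtain ⟨k, hk, hkm, hks⟩ := cycle_param hd (he.symm.trans hm)
  have hds : _root_.Disjoint c.support d.support := disjoint_iff_disjoint_support.mp hdis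
  have hfin : ∀ x, f x ∈ c.support := fun x => by rw [hfs]; exact Finset.mem_image_of_mem f (Finset.mem_univ x)
  have hkin : ∀ x, k x ∈ d.support := fun x => by rw [hks]; exact Finset.mem_image_of_mem k (Finset.mem_univ x)
  have hne : ∀ x y, f x ≠ k y := fun x y e => Finset.disjoint_left.mp hds (hfin x) (e ▸ hkin y)
  let F : ZMod m ⊕ ZMod m → α := Sum.elim f k
  let r₀ : Perm (ZMod m ⊕ ZMod m) := Equiv.sumCongr (Equiv.addRight 1) (Equiv.addRight 1)
  let n₀ : Perm (ZMod m ⊕ ZMod m) :=
    (Equiv.sumComm (ZMod m) (ZMod m)).trans (Equiv.sumCongr (Equiv.neg _) (Equiv.neg _))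
  have hfull : ∀ p : Perm (ZMod m ⊕ ZMod m), (∀ x, (p x).isLeft ≠ x.isLeft) → p.support.card = 2 * m := by
    intro p hp
    rw [Finset.eq_univ_of_forall fun x => mem_support.mpr fun e => hp x (by rw [e]), Finset.card_univ,
      Fintype.card_sum, ZMod.card]
    omega
  obtain ⟨a, ha, h1, h2⟩ := transport F (hf.sumElim hk hne) r₀ n₀ (c * d) (by
      rintro (x | x)
      · show c (d (f x)) = f (x + 1)
        rw [notMem_support.mp (Finset.disjoint_left.mp hds (hfin x)), hfm]
      · show c (d (k x)) = k (x + 1)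
        rw [hkm, notMem_support.mp (Finset.disjoint_right.mp hds (hkin (x + 1)))]) (by
      rw [hdis.support_mul, hfs, hks]
      ext y
      simp [F, Finset.mem_union])
    (by ext x; rcases x with x | x <;> simp [n₀])
    (by ext x; rcases x with x | x <;> simp [n₀, r₀])
  refine ⟨a, ha, ?_, ?_⟩
  · rw [h1, hm]; exact hfull _ (by rintro (x | x) <;> simp [n₀])
  · rw [h2, hm]; exact hfull _ (by rintro (x | x) <;> simp [n₀, r₀])

/-- A balanced reflection exists. -/
theorem exists_balanced (g : Perm α) : ∃ a, Refl g a ∧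
    a.support.card + (a * g).support.card + 2 * Multiset.card g.cycleType = 2 * g.support.card ∧
    a.support.card ≤ (a * g).support.card + 2 ∧ (a * g).support.card ≤ a.support.card + 2 := by
  induction g using cycle_induction_on with
  | base_one => exact ⟨1, ⟨one_mul 1, by simp, by simp⟩, by simp, by simp, by simp⟩
  | base_cycles c hc =>
    rw [hc.cycleType]
    rcases Nat.even_or_odd c.support.card with h | h
    · obtain ⟨⟨a, ha, h1, h2⟩, -⟩ := (cycle_refl hc).2 h
      exact ⟨a, ha, by simp; omega, by omega, by omega⟩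
    · obtain ⟨a, ha, h1, h2⟩ := (cycle_refl hc).1 h
      exact ⟨a, ha, by simp; omega, by omega, by omega⟩
  | induction_disjoint c τ hd hc _ ihτ =>
    obtain ⟨a₂, ha₂, e₂, l₂, l₂'⟩ := ihτ
    rw [hd.cycleType_mul, hd.card_support_mul, Multiset.card_add, hc.cycleType]
    have heven : Even (a₂.support.card + (a₂ * τ).support.card) := by
      refine ⟨τ.support.card - Multiset.card τ.cycleType, ?_⟩
      omega
    obtain ⟨w, hw⟩ := heven
    rcases Nat.even_or_odd c.support.card with h | h
    · obtain ⟨⟨a, ha, h1, h2⟩, ⟨a', ha', h1', h2'⟩⟩ := (cycle_refl hc).2 h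
      by_cases hle : (a₂ * τ).support.card ≤ a₂.support.card
      · obtain ⟨hr, hA, hB⟩ := refl_mul hd ha ha₂
        exact ⟨_, hr, by simp [hA, hB]; omega, by rw [hA, hB]; omega, by rw [hA, hB]; omega⟩
      · obtain ⟨hr, hA, hB⟩ := refl_mul hd ha' ha₂
        exact ⟨_, hr, by simp [hA, hB]; omega, by rw [hA, hB]; omega, by rw [hA, hB]; omega⟩
    · obtain ⟨a, ha, h1, h2⟩ := (cycle_refl hc).1 h
      obtain ⟨hr, hA, hB⟩ := refl_mul hd ha ha₂
      exact ⟨_, hr, by simp [hA, hB]; omega, by rw [hA, hB]; omega, by rw [hA, hB]; omega⟩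

/-- For even permutations the two reflections move the same number of points. -/
theorem exists_even_refl {g : Perm α} (hg : sign g = 1) : ∃ a, Refl g a ∧
    (a * g).cycleType = a.cycleType ∧ a.support.card + Multiset.card g.cycleType = g.support.card := by
  obtain ⟨a, ha, he, h1, h2⟩ := exists_balanced g
  obtain ⟨k, hk, hks, hsa⟩ := invol_type ha.1
  obtain ⟨l, hl, hls, hsb⟩ := invol_type ha.2.1
  rw [map_mul, hg, mul_one, hsa] at hsb
  have hkl : k = l := by
    by_contra hne
    rcases (by omega : k = l + 1 ∨ l = k + 1) with h | h <;> subst h <;>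
      rw [pow_succ] at hsb <;> simp at hsb
  exact ⟨a, ha, by rw [hl, hk, hkl], by omega⟩

theorem good_of_invol {g a : Perm α} (h1 : a * a = 1) (hct : (a * g).cycleType = a.cycleType) {k : ℕ}
    (hk : a.support.card = 4 * k) (hk1 : 1 ≤ k) : Good g := by
  obtain ⟨l, hl, hls, hsign⟩ := invol_type h1
  have hinv : a⁻¹ = a := inv_eq_of_mul_eq_one_left h1
  have hap : ∀ x, a (a x) = x := fun x => by rw [← Perm.mul_apply, h1, Perm.one_apply]
  obtain ⟨p, hp⟩ : a.support.Nonempty := Finset.card_pos.mp (by omega)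
  obtain ⟨r, hr, hr'⟩ : ∃ r ∈ a.support, r ∉ ({p, a p} : Finset α) :=
    Finset.exists_mem_notMem_of_card_lt_card (lt_of_le_of_lt Finset.card_le_two (by omega))
  simp only [Finset.mem_insert, Finset.mem_singleton, not_or] at hr'
  refine ⟨a, ?_, ⟨p, a p, r, a r, rfl, hap p, rfl, hap r, (mem_support.mp hp).symm, (mem_support.mp hr).symm,
    fun e => hr'.1 e.symm, fun e => hr'.2 (by rw [e, hap]), fun e => hr'.2 e.symm, fun e => hr'.1 (a.injective e).symm⟩,
    by rw [hinv]; exact hct⟩
  rw [hsign, show l = 2 * k by omega, pow_mul]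
  simp

theorem good_conj {g : Perm α} (h : Good g) (σ : Perm α) : Good (σ * g * σ⁻¹) := by
  obtain ⟨a, hs, ⟨p, q, r, s, h1, h2, h3, h4, n1, n2, n3, n4, n5, n6⟩, hct⟩ := h
  refine ⟨σ * a * σ⁻¹, by simp [hs], ⟨σ p, σ q, σ r, σ s, ?_⟩, ?_⟩
  · simp only [Perm.mul_apply, Perm.inv_def, Equiv.symm_apply_apply, h1, h2, h3, h4, true_and, ne_eq, σ.injective.eq_iff]
    exact ⟨n1, n2, n3, n4, n5, n6⟩
  · rw [show (σ * a * σ⁻¹)⁻¹ * (σ * g * σ⁻¹) = σ * (a⁻¹ * g) * σ⁻¹ by group, cycleType_conj, cycleType_conj, hct]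

/-- A witness on fewer points serves every permutation of its type. -/
theorem good_of_witness {N : ℕ} (hN : N ≤ Fintype.card α) {g₀ : Perm (Fin N)} (h : Good g₀) {g : Perm α}
    (hg : g.cycleType = g₀.cycleType) : Good g := by
  obtain ⟨emb⟩ : Nonempty (Fin N ↪ α) := Function.Embedding.nonempty_of_card_le (by simpa using hN)
  let e : Fin N ≃ {y // y ∈ Set.range emb} := Equiv.ofInjective emb emb.injective
  have happ : ∀ (p : Perm (Fin N)) x, p.extendDomain e (emb x) = emb (p x) := fun p x =>
    extendDomain_apply_image p e x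
  obtain ⟨a, hs, ⟨p, q, r, s, h1, h2, h3, h4, n1, n2, n3, n4, n5, n6⟩, hct⟩ := h
  have hw : Good (g₀.extendDomain e) := by
    refine ⟨a.extendDomain e, by rw [sign_extendDomain, hs], ⟨emb p, emb q, emb r, emb s, ?_⟩, ?_⟩
    · simp only [happ, h1, h2, h3, h4, true_and, ne_eq, emb.injective.eq_iff]
      exact ⟨n1, n2, n3, n4, n5, n6⟩
    · rw [extendDomain_inv, extendDomain_mul, cycleType_extendDomain, cycleType_extendDomain, hct]
  obtain ⟨σ, hσ⟩ := isConj_iff.mp (isConj_iff_cycleType_eq.mpr
    (show (g₀.extendDomain e).cycleType = g.cycleType by rw [cycleType_extendDomain, hg]))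
  exact hσ ▸ good_conj hw σ

end CfsgAltCover.Ore
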