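/-
All even permutations of at least five points are good in the sense of `OreShape.lean`.
-/
import Mathlib
import Cfsg.Agent.Lib.AltCover.OreShape

set_option autoImplicit false
set_option linter.unusedSectionVars false

namespace CfsgAltCover.Ore

open Equiv Equiv.Perm

variable {α : Type*} [Fintype α] [DecidableEq α]

theorem four_cycle {u x v y : α} (huv : u ≠ v) (hux : u ≠ x) (hvy : v ≠ y) (huy : u ≠ y) (hxv : x ≠ v) (hxy : x ≠ y) :
    (swap u x * swap v y * swap u v).cycleType = {4} ∧
      (swap u x * swap v y * swap u v).support ⊆ {u, v, x, y} := by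
  have hnd : [u, y, v, x].Nodup := by
    simp [huy, huv, hux, hvy.symm, hxy.symm, hxv.symm]
  have e : swap u x * swap v y * swap u v = [u, y, v, x].formPerm := by
    rw [List.formPerm_cons_cons, List.formPerm_cons_cons, List.formPerm_cons_cons, List.formPerm_singleton, mul_one]
    ext z
    simp only [Perm.mul_apply]
    by_cases h1 : z = u
    · subst h1; simp [swap_apply_of_ne_of_ne, huy, huv, hux, hvy, hxy, hxv, huy.symm, huv.symm, hux.symm, hvy.symm, hxy.symm, hxv.symm]
    by_cases h2 : z = v
    · subst h2; simp [swap_apply_of_ne_of_ne, huy, huv, hux, hvy, hxy, hxv, huy.symm, huv.symm, hux.symm, hvy.symm, hxy.symm, hxv.symm]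
    by_cases h3 : z = x
    · subst h3; simp [swap_apply_of_ne_of_ne, huy, huv, hux, hvy, hxy, hxv, huy.symm, huv.symm, hux.symm, hvy.symm, hxy.symm, hxv.symm]
    by_cases h4 : z = y
    · subst h4; simp [swap_apply_of_ne_of_ne, huy, huv, hux, hvy, hxy, hxv, huy.symm, huv.symm, hux.symm, hvy.symm, hxy.symm, hxv.symm]
    simp [swap_apply_of_ne_of_ne, h1, h2, h3, h4]
  have hs := List.support_formPerm_of_nodup _ hnd (by simp)
  refine ⟨?_, ?_⟩
  · rw [e, (List.isCycle_formPerm hnd (by simp)).cycleType, hs, List.toFinset_card_of_nodup hnd]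
    rfl
  · rw [e, hs]
    intro z hz
    simp at hz ⊢
    tauto

/-- Two pairs of an involution joined by a transposition. -/
theorem joined_type {a : Perm α} (h : a * a = 1) {u v : α} (hu : a u ≠ u) (hv : a v ≠ v) (huv : v ≠ u)
    (hau : v ≠ a u) {k : ℕ} (hk : a.support.card = 2 * k) :
    (a * swap u v).cycleType = {4} + Multiset.replicate (k - 2) 2 := by
  have hap : ∀ x, a (a x) = x := fun x => by rw [← Perm.mul_apply, h, Perm.one_apply]
  have hne1 : u ≠ a v := fun e => hau (by rw [e, hap])
  have hne2 : a u ≠ a v := fun e => huv (a.injective e).symm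
  obtain ⟨x, hxe⟩ : ∃ x, a u = x := ⟨_, rfl⟩
  obtain ⟨y, hye⟩ : ∃ y, a v = y := ⟨_, rfl⟩
  have hxu : a x = u := hxe ▸ hap u
  have hyv : a y = v := hye ▸ hap v
  rw [hxe] at hu hau hne2
  rw [hye] at hv hne1 hne2
  set w := swap u x * swap v y with hw
  have hdw : Disjoint (swap u x) (swap v y) := by
    rw [disjoint_iff_disjoint_support, support_swap hu.symm, support_swap hv.symm]
    simp [huv.symm, hne1, hau.symm, hne2, huv, hne1.symm, hau, hne2.symm]
  have hw2 : w * w = 1 := by
    rw [hw, hdw.commute.symm.mul_mul_mul_comm, swap_mul_self, swap_mul_self, one_mul]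
  have hwsupp : w.support = {u, x, v, y} := by
    rw [hw, hdw.support_mul, support_swap hu.symm, support_swap hv.symm]
    ext z; simp; tauto
  set r := w * a with hr
  have har : a = w * r := by rw [hr, ← mul_assoc, hw2, one_mul]
  have hfix : ∀ z, z = u ∨ z = x ∨ z = v ∨ z = y → r z = z := by
    intro z hz
    rw [hr, Perm.mul_apply, hw, Perm.mul_apply]
    rcases hz with rfl | rfl | rfl | rfl
    · rw [hxe, swap_apply_of_ne_of_ne hau.symm hne2, swap_apply_right]
    · rw [hxu, swap_apply_of_ne_of_ne huv.symm hne1, swap_apply_left]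
    · rw [hye, swap_apply_right, swap_apply_of_ne_of_ne huv hau]
    · rw [hyv, swap_apply_left, swap_apply_of_ne_of_ne hne1.symm hne2.symm]
  have hdr : Disjoint w r := fun z => by
    by_cases hz : z ∈ w.support
    · right; rw [hwsupp] at hz; exact hfix z (by simpa using hz)
    · left; exact notMem_support.mp hz
  have hcard4 : w.support.card = 4 := by
    rw [hw, hdw.card_support_mul, card_support_swap hu.symm, card_support_swap hv.symm]
  have hrcard : r.support.card + 4 = 2 * k := by
    rw [← hk, har, hdr.card_support_mul, hcard4, add_comm]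
  have hrr : r * r = 1 := by
    have := h
    rw [har, hdr.commute.symm.mul_mul_mul_comm, hw2, one_mul] at this
    exact this
  obtain ⟨l, hl, hls, -⟩ := invol_type hrr
  obtain ⟨h4, hsub⟩ := four_cycle huv.symm hu.symm hv.symm hne1 hau.symm hne2
  rw [← hw] at h4 hsub
  have hd2 : Disjoint (w * swap u v) r := fun z => by
    by_cases hz : z ∈ (w * swap u v).support
    · right
      have := hsub hz
      simp at this
      exact hfix z (by tauto)
    · left; exact notMem_support.mp hz
  have hcom : Commute r (swap u v) := by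
    have hfu := hfix u (Or.inl rfl)
    have hfv := hfix v (Or.inr (Or.inr (Or.inl rfl)))
    show r * swap u v = swap u v * r
    rw [Equiv.mul_swap_eq_swap_mul, hfu, hfv]
  rw [har, mul_assoc, hcom.eq, ← mul_assoc, hd2.cycleType_mul, h4, hl, show l = k - 2 by omega]

theorem good_big {g : Perm α} (hg : sign g = 1) {a : Perm α} (ha : Refl g a)
    (hct : (a * g).cycleType = a.cycleType) {j : ℕ} (hA : a.support.card = 2 * (2 * j + 1))
    (hsum : a.support.card + Multiset.card g.cycleType = g.support.card) (hj : 2 ≤ j)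
    (hnd : g.cycleType.Nodup) : Good g := by
  set b := a * g with hb
  have h1 := ha.1
  have hap : ∀ x, a (a x) = x := fun x => by rw [← Perm.mul_apply, h1, Perm.one_apply]
  have hbc : b.support.card = a.support.card := by rw [← sum_cycleType, ← sum_cycleType, hct]
  have hk : 2 * Multiset.card g.cycleType ≤ a.support.card + 1 := by
    have h3 : ∀ x ∈ g.cycleType, x = 2 ∨ 3 ≤ x := fun x hx => by have := two_le_of_mem_cycleType hx; omega
    have hge : ∀ M : Multiset ℕ, (∀ x ∈ M, x = 2 ∨ 3 ≤ x) → 3 * Multiset.card M ≤ M.sum + M.count 2 := by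
      intro M
      induction M using Multiset.induction_on with
      | empty => simp
      | cons x M ih =>
        intro hM
        have := ih fun y hy => hM y (Multiset.mem_cons_of_mem hy)
        rw [Multiset.card_cons, Multiset.sum_cons, Multiset.count_cons]
        rcases hM x (Multiset.mem_cons_self x M) with rfl | h
        · simp; omega
        · rw [if_neg (by omega : ¬ 2 = x)]; omega
    have := hge _ h3
    have := Multiset.nodup_iff_count_le_one.mp hnd 2
    rw [sum_cycleType] at *
    omega
  set D := a.support ∩ b.support with hD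
  have hDc : 4 ≤ D.card := by
    have h := Finset.card_union_add_card_inter a.support b.support
    have h' : (a.support ∪ b.support).card ≤ g.support.card :=
      Finset.card_le_card (Finset.union_subset ha.2.2 (refl_support ha))
    rw [← hD] at h
    omega
  obtain ⟨u, hu⟩ : D.Nonempty := Finset.card_pos.mp (by omega)
  obtain ⟨v, hv, hv'⟩ : ∃ v ∈ D, v ∉ ({u, a u, b u} : Finset α) :=
    Finset.exists_mem_notMem_of_card_lt_card (lt_of_le_of_lt Finset.card_le_three (by omega))
  simp only [Finset.mem_insert, Finset.mem_singleton, not_or] at hv'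
  rw [hD, Finset.mem_inter, mem_support, mem_support] at hu hv
  have hta := joined_type h1 hu.1 hv.1 hv'.1 hv'.2.1 (k := 2 * j + 1) hA
  have htb := joined_type ha.2.1 hu.2 hv.2 hv'.1 hv'.2.2 (k := 2 * j + 1) (hbc.trans hA)
  obtain ⟨k, hkt, hks, hsa⟩ := invol_type h1
  have hinv : a⁻¹ = a := inv_eq_of_mul_eq_one_left h1
  have hsgn : sign (a * swap u v) = 1 := by
    rw [map_mul, hsa, sign_swap (Ne.symm hv'.1), show k = 2 * j + 1 by omega, pow_succ, pow_mul]
    simp
  -- two untouched pairs
  let T : Finset α := {u, a u, v, a v}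
  obtain ⟨p, hp, hpT⟩ : ∃ p ∈ a.support, p ∉ T :=
    Finset.exists_mem_notMem_of_card_lt_card (lt_of_le_of_lt Finset.card_le_four (by omega))
  have h6 : ({u, a u, v, a v, p, a p} : Finset α).card < a.support.card :=
    lt_of_le_of_lt Finset.card_le_six (by omega)
  obtain ⟨r, hr, hrT⟩ := Finset.exists_mem_notMem_of_card_lt_card h6
  simp only [T, Finset.mem_insert, Finset.mem_singleton, not_or] at hpT hrT
  obtain ⟨p1, p2, p3, p4⟩ := hpT
  obtain ⟨r1, r2, r3, r4, r5, r6⟩ := hrT
  have hne : ∀ z, z ≠ a u → a z ≠ u := fun z hz e => hz (by rw [← e, hap])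
  have hne' : ∀ z, z ≠ a v → a z ≠ v := fun z hz e => hz (by rw [← e, hap])
  refine ⟨a * swap u v, hsgn, ⟨p, a p, r, a r, ?_, ?_, ?_, ?_, (mem_support.mp hp).symm, (mem_support.mp hr).symm,
    fun e => r5 e.symm, fun e => r6 (by rw [e, hap]), fun e => r6 e.symm, fun e => r5 (a.injective e).symm⟩, ?_⟩
  · rw [Perm.mul_apply, swap_apply_of_ne_of_ne p1 p3]
  · rw [Perm.mul_apply, swap_apply_of_ne_of_ne (hne p p2) (hne' p p4), hap]
  · rw [Perm.mul_apply, swap_apply_of_ne_of_ne r1 r3]
  · rw [Perm.mul_apply, swap_apply_of_ne_of_ne (hne r r2) (hne' r r4), hap]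
  · rw [mul_inv_rev, swap_inv, hinv, mul_assoc, hta, ← htb, ← hb, ← cycleType_conj (σ := b * swap u v) (τ := swap u v)]
    congr 1
    rw [swap_inv, mul_assoc (swap u v), mul_assoc b, swap_mul_self, mul_one]

/-- A witness for the seven cycle. -/
def w7 : Perm (Fin 7) := c[0, 6, 3] * c[2, 4] * c[1, 5]

/-- A witness for the type two six. -/
def w26 : Perm (Fin 8) := c[5, 1] * c[0, 6] * c[3, 4, 7]

/-- A witness for the type three five. -/
def w35 : Perm (Fin 8) := c[0, 5] * c[1, 4] * c[2, 6, 7]

/-- A witness for the type two three four. -/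
def w234 : Perm (Fin 9) := c[7, 3] * c[8, 5] * c[2, 6, 4]

theorem good_six_witnesses :
    Good (c[0, 1, 2, 3, 4, 5, 6] : Perm (Fin 7)) ∧
    Good (c[0, 1] * c[2, 3, 4, 5, 6, 7] : Perm (Fin 8)) ∧
    Good (c[0, 1, 2] * c[3, 4, 5, 6, 7] : Perm (Fin 8)) ∧
    Good (c[0, 1] * c[2, 3, 4] * c[5, 6, 7, 8] : Perm (Fin 9)) := by
  refine ⟨⟨w7, by decide, ⟨2, 4, 1, 5, by decide⟩, ?_⟩, ⟨w26, by decide, ⟨5, 1, 0, 6, by decide⟩, ?_⟩,
    ⟨w35, by decide, ⟨0, 5, 1, 4, by decide⟩, ?_⟩, ⟨w234, by decide, ⟨7, 3, 8, 5, by decide⟩, ?_⟩⟩ <;> decide +kernel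

theorem small_types {M : Multiset ℕ} (h2 : ∀ x ∈ M, 2 ≤ x) (hnd : M.Nodup) (hs : M.sum = 6 + Multiset.card M) :
    M = {7} ∨ M = {2, 6} ∨ M = {3, 5} ∨ M = {2, 3, 4} := by
  have hle : ∀ x ∈ M, x ≤ 7 := by
    intro x hx
    obtain ⟨R, rfl⟩ := Multiset.exists_cons_of_mem hx
    have : 2 * Multiset.card R ≤ R.sum := by
      have := Multiset.card_nsmul_le_sum (s := R) (a := 2) fun y hy => h2 y (Multiset.mem_cons_of_mem hy)
      rwa [smul_eq_mul, mul_comm] at this
    rw [Multiset.sum_cons, Multiset.card_cons] at hs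
    omega
  have hsub : M ∈ (Finset.Icc 2 7).val.powerset := by
    rw [Multiset.mem_powerset, Multiset.le_iff_subset hnd]
    intro x hx
    rw [Finset.mem_val, Finset.mem_Icc]
    exact ⟨h2 x hx, hle x hx⟩
  have key : ∀ N ∈ (Finset.Icc 2 7).val.powerset, N.sum = 6 + Multiset.card N →
      N = {7} ∨ N = {2, 6} ∨ N = {3, 5} ∨ N = {2, 3, 4} := by decide
  exact key M hsub hs

theorem good_six {g : Perm α} (hnd : g.cycleType.Nodup) (hs : g.support.card = 6 + Multiset.card g.cycleType) :
    Good g := by
  have hN : g.support.card ≤ Fintype.card α := Finset.card_le_univ _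
  obtain ⟨w1, w2, w3, w4⟩ := good_six_witnesses
  rcases small_types (fun x hx => two_le_of_mem_cycleType hx) hnd (by rw [sum_cycleType]; exact hs) with h | h | h | h <;>
    rw [h] at hs
  · exact good_of_witness (by simp at hs; omega) w1 (by rw [h]; decide +kernel)
  · exact good_of_witness (by simp at hs; omega) w2 (by rw [h]; decide +kernel)
  · exact good_of_witness (by simp at hs; omega) w3 (by rw [h]; decide +kernel)
  · exact good_of_witness (by simp at hs; omega) w4 (by rw [h]; decide +kernel)

/-- Every nontrivial even permutation of at least five points is good. -/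
theorem good_all {g : Perm α} (h5 : 5 ≤ Fintype.card α) (hg : sign g = 1) (hne : g ≠ 1) : Good g := by
  obtain ⟨a, ha, hct, hsum⟩ := exists_even_refl hg
  obtain ⟨k, hkt, hks, hsa⟩ := invol_type ha.1
  have hpos : 0 < k := by
    by_contra h0
    have hc : Multiset.card g.cycleType * 2 ≤ g.cycleType.sum := by
      have := Multiset.card_nsmul_le_sum (s := g.cycleType) (a := 2) fun y hy => two_le_of_mem_cycleType hy
      rwa [smul_eq_mul] at this
    rw [sum_cycleType] at hc
    exact hne (card_support_eq_zero.mp (by omega))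
  rcases Nat.even_or_odd' k with ⟨j, hj | hj⟩
  · exact good_of_invol ha.1 hct (k := j) (by omega) (by omega)
  -- a change of parity
  by_cases hfix : 2 ≤ Fintype.card α - g.support.card
  · obtain ⟨x, y, hxy, hxs, hys⟩ : ∃ x y, x ≠ y ∧ x ∉ g.support ∧ y ∉ g.support := by
      have hc : 1 < (Finset.univ \ g.support).card := by
        rw [Finset.card_univ_diff]; omega
      obtain ⟨x, hx, y, hy, hxy⟩ := Finset.one_lt_card.mp hc
      exact ⟨x, y, hxy, (Finset.mem_sdiff.mp hx).2, (Finset.mem_sdiff.mp hy).2⟩
    have hdis : ∀ p : Perm α, p.support ⊆ g.support → Disjoint p (swap x y) := fun p hp => by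
      rw [disjoint_iff_disjoint_support, support_swap hxy]
      exact Finset.disjoint_of_subset_left hp (by simp [hxs, hys])
    have hda := hdis a ha.2.2
    have hdb := hdis (a * g) (refl_support ha)
    have hdg := hdis g (le_refl _)
    refine good_of_invol (a := a * swap x y) ?_ ?_ (k := j + 1) ?_ (by omega)
    · rw [hda.commute.symm.mul_mul_mul_comm, ha.1, swap_mul_self, one_mul]
    · rw [mul_assoc, hdg.symm.commute.eq, ← mul_assoc, hdb.cycleType_mul, hda.cycleType_mul, hct]
    · rw [hda.card_support_mul, card_support_swap hxy]; omega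
  by_cases hnd : g.cycleType.Nodup
  · rcases Nat.lt_or_ge j 2 with hj2 | hj2
    · have h2k : 2 * Multiset.card g.cycleType ≤ g.cycleType.sum := by
        have := Multiset.card_nsmul_le_sum (s := g.cycleType) (a := 2) fun y hy => two_le_of_mem_cycleType hy
        rwa [smul_eq_mul, mul_comm] at this
      rw [sum_cycleType] at h2k
      interval_cases j
      · exfalso
        have hk2 : Multiset.card g.cycleType ≤ 2 := by omega
        rcases (by omega : Multiset.card g.cycleType ≤ 1 ∨ Multiset.card g.cycleType = 2) with h | h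
        · omega
        · obtain ⟨x, y, hxy⟩ := Multiset.card_eq_two.mp h
          have hs := sum_cycleType g
          rw [hxy] at hs hnd
          have hx := two_le_of_mem_cycleType (σ := g) (n := x) (by rw [hxy]; simp)
          have hy := two_le_of_mem_cycleType (σ := g) (n := y) (by rw [hxy]; simp)
          simp at hnd hs
          omega
      · exact good_six hnd (by omega)
    · exact good_big hg ha hct (j := j) (by omega) hsum hj2 hnd
  · obtain ⟨m, hm⟩ : ∃ m, 1 < g.cycleType.count m := by
      simpa [Multiset.nodup_iff_count_le_one] using hnd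
    have hm1 : m ∈ g.cycleType := Multiset.count_pos.mp (by omega)
    rw [cycleType_def, Multiset.mem_map] at hm1
    obtain ⟨c, hc, hcm⟩ := hm1
    simp only [Function.comp_apply] at hcm
    obtain ⟨hcc, -⟩ := mem_cycleFactorsFinset_iff.mp hc
    have hdc : Disjoint (g * c⁻¹) c := disjoint_mul_inv_of_mem_cycleFactorsFinset hc
    have hgc : g = g * c⁻¹ * c := (inv_mul_cancel_right g c).symm
    have hct1 : g.cycleType = (g * c⁻¹).cycleType + c.cycleType := by
      conv_lhs => rw [hgc]
      rw [hdc.cycleType_mul]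
    have hm2 : m ∈ (g * c⁻¹).cycleType := Multiset.count_pos.mp (by
      rw [hct1, Multiset.count_add, hcc.cycleType, hcm] at hm
      simp at hm; omega)
    rw [cycleType_def, Multiset.mem_map] at hm2
    obtain ⟨d, hd, hdm⟩ := hm2
    simp only [Function.comp_apply] at hdm
    obtain ⟨hdc', -⟩ := mem_cycleFactorsFinset_iff.mp hd
    have hdd : Disjoint (g * c⁻¹ * d⁻¹) d := disjoint_mul_inv_of_mem_cycleFactorsFinset hd
    set g' := g * c⁻¹ * d⁻¹ with hg'
    have hcd : Disjoint d c := by
      rw [disjoint_iff_disjoint_support]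
      exact Finset.disjoint_of_subset_left (mem_cycleFactorsFinset_support_le hd) (disjoint_iff_disjoint_support.mp hdc)
    have hg'c : Disjoint g' c := by
      rw [disjoint_iff_disjoint_support]
      refine Finset.disjoint_of_subset_left ?_ (disjoint_iff_disjoint_support.mp hdc)
      have : g * c⁻¹ = g' * d := by rw [hg', inv_mul_cancel_right]
      rw [this, hdd.support_mul]
      exact Finset.subset_union_left
    have hpd : Disjoint (c * d) g' := Disjoint.mul_left hg'c.symm hdd.symm
    have hge : g = c * d * g' := by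
      rw [hpd.commute.eq, hcd.symm.commute.eq, hg']
      group
    have hs' : sign g' = 1 := by
      rw [hge, map_mul, map_mul, hcc.sign, hdc'.sign, hcm, hdm] at hg
      rcases Int.units_eq_one_or ((-1 : ℤˣ) ^ m) with e | e <;> simp [e] at hg <;> exact hg
    obtain ⟨a', ha', hct', hsum'⟩ := exists_even_refl hs'
    obtain ⟨p, hp, hp1, hp2⟩ := pair_refl hcc hdc' hcd.symm (hcm.trans hdm.symm)
    obtain ⟨hr, hA, hB⟩ := refl_mul hpd hp ha'
    obtain ⟨l, hl, hls, hsl⟩ := invol_type hr.1
    obtain ⟨l', hl', hls', -⟩ := invol_type hr.2.1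
    have hb' : (a' * g').support.card = a'.support.card := by rw [← sum_cycleType, ← sum_cycleType, hct']
    have hm2' : 2 ≤ m := hcm ▸ hcc.two_le_card_support
    have hsum2 : g.support.card = 2 * m + g'.support.card := by
      rw [hge, hpd.card_support_mul, hcd.symm.card_support_mul]; omega
    have hcard2 : Multiset.card g.cycleType = Multiset.card g'.cycleType + 2 := by
      rw [hge, hpd.cycleType_mul, hcd.symm.cycleType_mul, hcc.cycleType, hdc'.cycleType]
      simp
    refine hge.symm ▸ good_of_invol hr.1 ?_ (k := j + 1) ?_ (by omega)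
    · rw [hl, hl', show l = l' by omega]
    · omega

end CfsgAltCover.Ore
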