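/-
Perfect double covers of alternating groups: lifts of two double transpositions on four points do not commute,
lifts of even permutations with disjoint supports do, and every element is a commutator.
-/
import Mathlib
import Cfsg.Agent.Lib.AltCover.OreGood
import Cfsg.Agent.Lib.AltCover.Carmichael
import Cfsg.Agent.Lib.AltCover.Involutions

set_option autoImplicit false
set_option linter.unusedSectionVars false
set_option linter.style.haveILetI false

namespace CfsgAltCover.Anti

open Equiv
open scoped commutatorElement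

variable {G : Type*} [Group G] {n : ℕ}

/-- A perfect double cover of the alternating group, as a map to permutations. -/
structure IsCover (π : G →* Perm (Fin n)) : Prop where
  perfect : commutator G = ⊤
  central : π.ker ≤ Subgroup.center G
  card : Nat.card π.ker = 2
  even : ∀ g, Perm.sign (π g) = 1
  onto : ∀ σ : Perm (Fin n), Perm.sign σ = 1 → ∃ g, π g = σ

variable {π : G →* Perm (Fin n)}

theorem IsCover.cen (h : IsCover π) {c : G} (hc : π c = 1) (g : G) : g * c = c * g :=
  Subgroup.mem_center_iff.mp (h.central (MonoidHom.mem_ker.mpr hc)) g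

theorem IsCover.sq (h : IsCover π) {c : G} (hc : π c = 1) : c * c = 1 := by
  have := congrArg Subtype.val (pow_card_eq_one' (x := (⟨c, MonoidHom.mem_ker.mpr hc⟩ : π.ker)))
  rw [h.card] at this
  simpa [_root_.sq] using this

/-- Two lifts of one permutation differ by a central element. -/
theorem IsCover.lifts (h : IsCover π) {x y : G} (e : π x = π y) : ∃ c, π c = 1 ∧ x = y * c :=
  ⟨y⁻¹ * x, by rw [map_mul, map_inv, e, inv_mul_cancel], by group⟩

/-- Whether lifts commute does not depend on their choice. -/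
theorem IsCover.commute_congr (h : IsCover π) {x y x' y' : G} (ex : π x' = π x) (ey : π y' = π y)
    (hc : Commute x y) : Commute x' y' := by
  obtain ⟨c, hc1, rfl⟩ := h.lifts ex
  obtain ⟨d, hd1, rfl⟩ := h.lifts ey
  have kc : ∀ g, Commute c g := fun g => (h.cen hc1 g).symm
  have kd : ∀ g, Commute g d := fun g => h.cen hd1 g
  exact ((hc.mul_right (kd x)).mul_left ((kc y).mul_right (kd c)))

/-- Squares do not depend on the lift. -/
theorem IsCover.sq_congr (h : IsCover π) {x y : G} (e : π x = π y) : x * x = y * y := by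
  obtain ⟨c, hc, rfl⟩ := h.lifts e
  have := h.cen hc
  calc y * c * (y * c) = y * (c * y) * c := by group
    _ = y * y * (c * c) := by rw [← this y]; group
    _ = y * y := by rw [h.sq hc, mul_one]

theorem exists_move {a b c d p q r s : Fin n} (h1 : [a, b, c, d].Nodup) (h2 : [p, q, r, s].Nodup) :
    ∃ g : Perm (Fin n), g a = p ∧ g b = q ∧ g c = r ∧ g d = s := by
  haveI := Equiv.Perm.isMultiplyPretransitive (Fin n) 4
  have mk : ∀ x y z w : Fin n, [x, y, z, w].Nodup → Function.Injective ![x, y, z, w] := by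
    intro x y z w hh
    have := List.nodup_ofFn.mp (show (List.ofFn ![x, y, z, w]).Nodup by simpa using hh)
    exact this
  obtain ⟨g, hg⟩ := MulAction.exists_smul_eq (Perm (Fin n))
    (⟨![a, b, c, d], mk _ _ _ _ h1⟩ : Fin 4 ↪ Fin n) (⟨![p, q, r, s], mk _ _ _ _ h2⟩ : Fin 4 ↪ Fin n)
  have e := fun i => congrArg (fun f : Fin 4 ↪ Fin n => f i) hg
  exact ⟨g, e 0, e 1, e 2, e 3⟩

theorem conj_pair (g : Perm (Fin n)) (a b c d : Fin n) :
    g * (swap a b * swap c d) * g⁻¹ = swap (g a) (g b) * swap (g c) (g d) := by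
  rw [← conj_swap' g a b, ← conj_swap' g c d]; group

/-- Lifts of two double transpositions on four points do not commute. -/
theorem IsCover.not_commute [Finite G] (h : IsCover π) (hn : 4 ≤ n) {a b c d : Fin n} (hnd : [a, b, c, d].Nodup)
    {A B : G} (hA : π A = swap a b * swap c d) (hB : π B = swap a c * swap b d) : ¬ Commute A B := by
  classical
  intro hAB
  have hconjev : ∀ (x y : Fin n) (g : Perm (Fin n)), x ≠ y → Perm.sign g = -1 → Perm.sign (g * swap x y) = 1 := by
    intro x y g hxy hg; rw [map_mul, hg, Perm.sign_swap hxy]; rfl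
  -- every quadruple
  have hall : ∀ p q r s : Fin n, [p, q, r, s].Nodup → ∀ P Q : G, π P = swap p q * swap r s →
      π Q = swap p r * swap q s → Commute P Q := by
    intro p q r s h2 P Q hP hQ
    obtain ⟨g, e1, e2, e3, e4⟩ := exists_move hnd h2
    have hbc : b ≠ c := by simp at hnd; tauto
    rcases Int.units_eq_one_or (Perm.sign g) with hs | hs
    · obtain ⟨K, hK⟩ := h.onto g hs
      refine h.commute_congr ?_ ?_ ((Commute.conj_iff K).mpr hAB)
      · rw [hP, map_mul, map_mul, map_inv, hK, hA, conj_pair, e1, e2, e3, e4]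
      · rw [hQ, map_mul, map_mul, map_inv, hK, hB, conj_pair, e1, e2, e3, e4]
    · obtain ⟨K, hK⟩ := h.onto _ (hconjev b c g hbc hs)
      have f1 : swap b c a = a := by simp at hnd; exact swap_apply_of_ne_of_ne (by tauto) (by tauto)
      have f2 : swap b c d = d := by
        simp at hnd; exact swap_apply_of_ne_of_ne (fun e => by subst e; tauto) (fun e => by subst e; tauto)
      refine h.commute_congr ?_ ?_ ((Commute.conj_iff K).mpr hAB.symm)
      · rw [hP, map_mul, map_mul, map_inv, hK, hB, conj_pair]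
        simp [Perm.mul_apply, f1, f2, e1, e2, e3, e4]
      · rw [hQ, map_mul, map_mul, map_inv, hK, hA, conj_pair]
        simp [Perm.mul_apply, f1, f2, e1, e2, e3, e4]
  -- all squares agree and are trivial
  have hsq : ∀ p q r s : Fin n, [p, q, r, s].Nodup → ∀ P : G, π P = swap p q * swap r s → P * P = A * A := by
    intro p q r s h2 P hP
    obtain ⟨g, e1, e2, e3, e4⟩ := exists_move hnd h2
    have hab : a ≠ b := by simp at hnd; tauto
    obtain ⟨g', hg's, hg'⟩ : ∃ g' : Perm (Fin n), Perm.sign g' = 1 ∧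
        g' * (swap a b * swap c d) * g'⁻¹ = swap p q * swap r s := by
      rcases Int.units_eq_one_or (Perm.sign g) with hs | hs
      · exact ⟨g, hs, by rw [conj_pair, e1, e2, e3, e4]⟩
      · refine ⟨g * swap a b, hconjev a b g hab hs, ?_⟩
        have f1 : swap a b c = c := by simp at hnd; exact swap_apply_of_ne_of_ne (fun e => by subst e; tauto) (fun e => by subst e; tauto)
        have f2 : swap a b d = d := by simp at hnd; exact swap_apply_of_ne_of_ne (fun e => by subst e; tauto) (fun e => by subst e; tauto)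
        rw [conj_pair]
        simp [Perm.mul_apply, f1, f2, e1, e2, e3, e4, swap_comm q p]
    obtain ⟨K, hK⟩ := h.onto g' hg's
    have hk : π (A * A) = 1 := by
      rw [map_mul, hA]
      have hd : Perm.Disjoint (swap a b) (swap c d) := by
        rw [Perm.disjoint_iff_disjoint_support]
        simp at hnd
        rw [Perm.support_swap (by tauto), Perm.support_swap (by tauto)]
        simp
        tauto
      rw [hd.commute.symm.mul_mul_mul_comm, swap_mul_self, swap_mul_self, one_mul]
    calc P * P = K * A * K⁻¹ * (K * A * K⁻¹) := h.sq_congr (by rw [hP, map_mul, map_mul, map_inv, hK, hA, hg'])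
      _ = K * (A * A) * K⁻¹ := by group
      _ = A * A := by rw [h.cen hk K, mul_inv_cancel_right]
  have hA1 : A * A = 1 := by
    have hB2 : B * B = A * A := hsq a c b d (by simp at hnd ⊢; tauto) B hB
    have hC : (A * B) * (A * B) = A * A := by
      refine hsq a d b c (by simp at hnd ⊢; tauto) (A * B) ?_
      rw [map_mul, hA, hB]
      simp at hnd
      ext z
      simp only [Perm.mul_apply]
      by_cases z1 : z = a
      · subst z1; simp [swap_apply_of_ne_of_ne, hnd, Ne.symm]
      by_cases z2 : z = b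
      · subst z2; simp [swap_apply_of_ne_of_ne, hnd, Ne.symm]
      by_cases z3 : z = c
      · subst z3; simp [swap_apply_of_ne_of_ne, hnd, Ne.symm]
      by_cases z4 : z = d
      · subst z4; simp [swap_apply_of_ne_of_ne, hnd, Ne.symm]
      simp [swap_apply_of_ne_of_ne, z1, z2, z3, z4]
    rw [hAB.symm.mul_mul_mul_comm, hB2] at hC
    exact mul_left_cancel (hC.trans (mul_one _).symm)
  -- Carmichael's relations
  let a0 : Fin n := ⟨0, by omega⟩
  let b0 : Fin n := ⟨1, by omega⟩
  have hab0 : a0 ≠ b0 := by simp [a0, b0]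
  let x : Fin n → Perm (Fin n) := fun i => swap a0 b0 * swap b0 i
  have hx3 : ∀ i, i ≠ a0 ∧ i ≠ b0 → x i * x i * x i = 1 := fun i hi => by
    have h3 : (x i).IsThreeCycle := by
      show (swap a0 b0 * swap b0 i).IsThreeCycle
      rw [swap_comm a0 b0]
      exact Perm.isThreeCycle_swap_mul_swap_same hab0.symm hi.2.symm hi.1.symm
    rw [← pow_three', ← h3.orderOf, pow_orderOf_eq_one]
  have hex : ∀ i : Fin n, ∃ X : G, X * X * X = 1 ∧ (i ≠ a0 ∧ i ≠ b0 → π X = x i) := fun i => by
    by_cases hi : i ≠ a0 ∧ i ≠ b0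
    · obtain ⟨Y, hY⟩ := h.onto (x i) (by simp [x, Perm.sign_swap hab0, Perm.sign_swap hi.2.symm])
      have hk : π (Y * Y * Y) = 1 := by rw [map_mul, map_mul, hY, hx3 i hi]
      refine ⟨Y * (Y * Y * Y), ?_, fun _ => by rw [map_mul, hk, mul_one, hY]⟩
      have hcY := h.cen hk
      calc Y * (Y * Y * Y) * (Y * (Y * Y * Y)) * (Y * (Y * Y * Y))
          = (Y * Y * Y) * (Y * Y * Y) * ((Y * Y * Y) * (Y * Y * Y)) := by group
        _ = 1 := by rw [h.sq hk, mul_one]
    · exact ⟨1, by simp, fun h' => absurd h' hi⟩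
  choose X hX3 hXπ using hex
  have hXX : ∀ i j : Fin n, (i ≠ a0 ∧ i ≠ b0) → (j ≠ a0 ∧ j ≠ b0) → i ≠ j → X j * X i = X i * X i * (X j * X j) := by
    intro i j hi hj hij
    have hpi : π (X j * X i) = swap a0 j * swap b0 i := by
      rw [map_mul, hXπ j hj, hXπ i hi]
      ext z
      simp only [x, Perm.mul_apply]
      by_cases z1 : z = a0
      · subst z1; simp [swap_apply_of_ne_of_ne, hab0, hi.1, hi.2, hj.1, hj.2, hij, hab0.symm, hi.1.symm, hi.2.symm, hj.1.symm, hj.2.symm, hij.symm]
      by_cases z2 : z = b0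
      · subst z2; simp [swap_apply_of_ne_of_ne, hab0, hi.1, hi.2, hj.1, hj.2, hij, hab0.symm, hi.1.symm, hi.2.symm, hj.1.symm, hj.2.symm, hij.symm]
      by_cases z3 : z = i
      · subst z3; simp [swap_apply_of_ne_of_ne, hab0, hi.1, hi.2, hj.1, hj.2, hij, hab0.symm, hi.1.symm, hi.2.symm, hj.1.symm, hj.2.symm, hij.symm]
      by_cases z4 : z = j
      · subst z4; simp [swap_apply_of_ne_of_ne, hab0, hi.1, hi.2, hj.1, hj.2, hij, hab0.symm, hi.1.symm, hi.2.symm, hj.1.symm, hj.2.symm, hij.symm]
      simp [swap_apply_of_ne_of_ne, z1, z2, z3, z4]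
    have h2 := hsq a0 j b0 i (by simp [hab0, hi.1.symm, hi.2.symm, hj.1.symm, hj.2, hij.symm]) _ hpi
    rw [hA1] at h2
    rw [eq_inv_of_mul_eq_one_left h2, mul_inv_rev, eq_inv_of_mul_eq_one_left (hX3 i), eq_inv_of_mul_eq_one_left (hX3 j)]
  obtain ⟨K, hKc, hKo⟩ := carmichael (by omega) π h.even X hX3 hXπ hXX
  have hKtop : K = ⊤ := by
    refine top_le_iff.mp ?_
    rw [← h.perfect, commutator_def, Subgroup.commutator_le]
    intro u _ v _
    obtain ⟨u', hu', eu⟩ := hKo (π u) (h.even u)
    obtain ⟨v', hv', ev⟩ := hKo (π v) (h.even v)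
    obtain ⟨c1, hc1, rfl⟩ := h.lifts eu.symm
    obtain ⟨c2, hc2, rfl⟩ := h.lifts ev.symm
    have h1 := h.cen hc1
    have h2 := h.cen hc2
    have e : ⁅u' * c1, v' * c2⁆ = ⁅u', v'⁆ := by
      simp only [commutatorElement_def]
      calc u' * c1 * (v' * c2) * (u' * c1)⁻¹ * (v' * c2)⁻¹
          = u' * (c1 * v') * c2 * c1⁻¹ * u'⁻¹ * c2⁻¹ * v'⁻¹ := by group
        _ = u' * v' * (c1 * (c2 * c1⁻¹)) * u'⁻¹ * c2⁻¹ * v'⁻¹ := by rw [← h1 v']; group
        _ = u' * v' * (c2 * u'⁻¹) * c2⁻¹ * v'⁻¹ := by rw [← h1 (c2 * c1⁻¹)]; group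
        _ = u' * v' * u'⁻¹ * v'⁻¹ := by rw [← h2 u'⁻¹]; group
    rw [e, commutatorElement_def]
    exact mul_mem (mul_mem (mul_mem hu' hv') (inv_mem hu')) (inv_mem hv')
  rw [hKtop, Subgroup.card_top] at hKc
  have hcard := Subgroup.card_mul_index π.ker
  rw [h.card, Subgroup.index_ker] at hcard
  have hrange : Nat.card (alternatingGroup (Fin n)) ≤ Nat.card π.range :=
    Nat.le_of_dvd Nat.card_pos (Subgroup.card_dvd_of_le fun σ hσ => h.onto σ hσ)
  haveI : Nontrivial (Fin n) := ⟨⟨a0, b0, hab0⟩⟩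
  have hA4 : 2 * Nat.card (alternatingGroup (Fin n)) = n.factorial := by
    rw [two_mul_nat_card_alternatingGroup, Nat.card_perm, Nat.card_fin]
  have := Nat.factorial_pos n
  omega

/-- Lifts of even permutations with disjoint supports commute, if one support has at most the size of a complement. -/
theorem IsCover.commute_disjoint [Finite G] (h : IsCover π) (P : G) (R : Perm (Fin n)) (hR : Perm.sign R = 1)
    (hd : ∀ z, R z ≠ z → π P z = z) : ∀ Y, π Y = R → Commute P Y := by
  classical
  let T : Finset (Fin n) := Finset.univ.filter fun z => π P z = z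
  have hf : ∀ r : Perm {z // π P z = z}, Commute (π P) (Perm.ofSubtype r) := fun r => by
    refine Perm.Disjoint.commute fun z => ?_
    by_cases hz : π P z = z
    · exact Or.inl hz
    · exact Or.inr (Perm.ofSubtype_apply_of_not_mem r hz)
  let H : Subgroup (Perm {z // π P z = z}) :=
    { carrier := {r | Perm.sign r = 1 ∧ ∀ Y, π Y = Perm.ofSubtype r → Commute P Y}
      one_mem' := ⟨map_one _, fun Y hY => by
        rw [map_one] at hY
        exact h.cen hY P⟩
      mul_mem' := by
        rintro r s ⟨hr, kr⟩ ⟨hs, ks⟩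
        refine ⟨by rw [map_mul, hr, hs, one_mul], fun Y hY => ?_⟩
        obtain ⟨U, hU⟩ := h.onto (Perm.ofSubtype r) (by rw [Perm.sign_ofSubtype, hr])
        obtain ⟨V, hV⟩ := h.onto (Perm.ofSubtype s) (by rw [Perm.sign_ofSubtype, hs])
        exact h.commute_congr rfl (by rw [hY, map_mul, map_mul, hU, hV]) ((kr U hU).mul_right (ks V hV))
      inv_mem' := by
        rintro r ⟨hr, kr⟩
        refine ⟨by rw [map_inv, hr, inv_one], fun Y hY => ?_⟩
        have := kr Y⁻¹ (by rw [map_inv, hY, map_inv, inv_inv])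
        simpa using this.inv_right }
  have h3 : ∀ r : Perm {z // π P z = z}, r.IsThreeCycle → r ∈ H := by
    intro r hr
    have hs : Perm.sign r = 1 := hr.sign
    refine ⟨hs, fun Y hY => ?_⟩
    obtain ⟨w, hw, e⟩ : ∃ w, π w = 1 ∧ P * Y = w * (Y * P) := by
      refine ⟨P * Y * (Y * P)⁻¹, ?_, by rw [inv_mul_cancel_right]⟩
      rw [map_mul, map_inv, map_mul, map_mul, hY, (hf r).eq, mul_inv_cancel]
    have hY3 : π (Y * Y * Y) = 1 := by
      rw [map_mul, map_mul, hY, ← map_mul, ← map_mul, ← pow_three', ← hr.orderOf, pow_orderOf_eq_one, map_one]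
    have hconj : P * Y * P⁻¹ = w * Y := by rw [e]; group
    have h3' : P * (Y * Y * Y) * P⁻¹ = Y * Y * Y := by rw [h.cen hY3 P, mul_inv_cancel_right]
    rw [show P * (Y * Y * Y) * P⁻¹ = (P * Y * P⁻¹) * (P * Y * P⁻¹) * (P * Y * P⁻¹) by group, hconj] at h3'
    have hwY := h.cen hw Y
    have hcomm : Commute w Y := hwY.symm
    rw [← pow_three' (w * Y), hcomm.mul_pow, pow_three', pow_three'] at h3'
    have hw1 : w * w * w = 1 := mul_right_cancel (h3'.trans (one_mul _).symm)
    rw [h.sq hw, one_mul] at hw1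
    rw [hw1, one_mul] at e
    exact e
  have htop : alternatingGroup {z // π P z = z} ≤ H := by
    rw [← Equiv.Perm.closure_three_cycles_eq_alternating, Subgroup.closure_le]
    exact h3
  intro Y hY
  have hinv : ∀ z, π P (R z) = R z ↔ π P z = z := fun z => by
    by_cases hz : R z = z
    · rw [hz]
    · exact iff_of_true (hd _ fun e => hz (R.injective e)) (hd z hz)
  have hfr : Perm.ofSubtype (R.subtypePerm hinv) = R := Perm.ofSubtype_subtypePerm hinv hd
  refine (htop (x := R.subtypePerm hinv) ?_).2 Y (by rw [hfr, hY])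
  rw [Perm.mem_alternatingGroup, Perm.sign_subtypePerm _ hinv hd, hR]

/-- Good permutations have both lifts among commutators. -/
theorem IsCover.commutator_lift [Finite G] (h : IsCover π) (hn : 4 ≤ n) {g : Perm (Fin n)} (hg : Ore.Good g) (x : G)
    (hx : π x = g) : ∃ u v : G, u * v * u⁻¹ * v⁻¹ = x := by
  classical
  obtain ⟨a, hs, ⟨p, q, r, s, h1, h2, h3, h4, n1, n2, n3, n4, n5, n6⟩, hct⟩ := hg
  have hsw : a * swap p q = swap p q * a := by rw [Equiv.mul_swap_eq_swap_mul, h1, h2, swap_comm]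
  obtain ⟨b, hb, hba⟩ := conj_even (s := a⁻¹) (t := a⁻¹ * g) (c := swap p q) (by rw [Perm.cycleType_inv, hct])
    ((show Commute (swap p q) a from hsw.symm).inv_right) (Perm.sign_swap n1)
  obtain ⟨A, hA⟩ := h.onto a hs
  obtain ⟨B, hB⟩ := h.onto b hb
  have hbase : π (A * B * A⁻¹ * B⁻¹) = g := by
    rw [map_mul, map_mul, map_mul, map_inv, map_inv, hA, hB, mul_assoc, mul_assoc, ← mul_assoc b, hba, mul_inv_cancel_left]
  obtain ⟨c, hc, hxc⟩ := h.lifts (hx.trans hbase.symm)
  by_cases hc1 : c = 1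
  · exact ⟨A, B, by rw [hxc, hc1, mul_one]⟩
  -- an element commuting with `a` whose lift does not
  set z := swap p r * swap q s with hz
  have hzs : Perm.sign z = 1 := by rw [hz, map_mul, Perm.sign_swap n3, Perm.sign_swap n6]; rfl
  obtain ⟨Z, hZ⟩ := h.onto z hzs
  obtain ⟨P, hP⟩ := h.onto (swap p q * swap r s) (by rw [map_mul, Perm.sign_swap n1, Perm.sign_swap n2]; rfl)
  set R := (swap p q * swap r s)⁻¹ * a with hR
  have hRs : Perm.sign R = 1 := by
    rw [hR, map_mul, map_inv, map_mul, Perm.sign_swap n1, Perm.sign_swap n2, hs]; rfl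
  have hRfix : ∀ w, R w ≠ w → z w = w := by
    intro w hw
    rw [hz, Perm.mul_apply]
    have hf : ∀ v, v = p ∨ v = q ∨ v = r ∨ v = s → R v = v := by
      intro v hv
      rw [hR, Perm.mul_apply, Perm.inv_eq_iff_eq, Perm.mul_apply]
      rcases hv with rfl | rfl | rfl | rfl
      · rw [h1, swap_apply_of_ne_of_ne n3 n4, swap_apply_left]
      · rw [h2, swap_apply_of_ne_of_ne n5 n6, swap_apply_right]
      · rw [h3, swap_apply_left, swap_apply_of_ne_of_ne n4.symm n6.symm]
      · rw [h4, swap_apply_right, swap_apply_of_ne_of_ne n3.symm n5.symm]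
    rw [swap_apply_of_ne_of_ne (fun e => hw (hf _ (Or.inr (Or.inl e)))) (fun e => hw (hf _ (Or.inr (Or.inr (Or.inr e))))),
      swap_apply_of_ne_of_ne (fun e => hw (hf _ (Or.inl e))) (fun e => hw (hf _ (Or.inr (Or.inr (Or.inl e)))))]
  obtain ⟨Y, hY⟩ := h.onto R hRs
  have hZY : Commute Z Y := h.commute_disjoint Z R hRs (by rw [hZ]; exact hRfix) Y hY
  have hA' : π A = π (P * Y) := by rw [map_mul, hP, hY, hA, hR, mul_inv_cancel_left]
  have hza : z * a = a * z := by
    rw [show a = swap p q * swap r s * R from by rw [hR, mul_inv_cancel_left]]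
    have k1 : Commute z R := Perm.Disjoint.commute fun w => by
      by_cases hw : R w = w
      · exact Or.inr hw
      · exact Or.inl (hRfix w hw)
    have k2 : Commute z (swap p q * swap r s) := by
      show z * (swap p q * swap r s) = swap p q * swap r s * z
      rw [hz]
      ext w
      simp only [Perm.mul_apply]
      by_cases w1 : w = p
      · subst w1; simp [swap_apply_of_ne_of_ne, n1, n2, n3, n4, n5, n6, n1.symm, n2.symm, n3.symm, n4.symm, n5.symm, n6.symm]
      by_cases w2 : w = q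
      · subst w2; simp [swap_apply_of_ne_of_ne, n1, n2, n3, n4, n5, n6, n1.symm, n2.symm, n3.symm, n4.symm, n5.symm, n6.symm]
      by_cases w3 : w = r
      · subst w3; simp [swap_apply_of_ne_of_ne, n1, n2, n3, n4, n5, n6, n1.symm, n2.symm, n3.symm, n4.symm, n5.symm, n6.symm]
      by_cases w4 : w = s
      · subst w4; simp [swap_apply_of_ne_of_ne, n1, n2, n3, n4, n5, n6, n1.symm, n2.symm, n3.symm, n4.symm, n5.symm, n6.symm]
      simp [swap_apply_of_ne_of_ne, w1, w2, w3, w4]
    exact (k2.mul_right k1).eq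
  obtain ⟨w, hw, hwe⟩ : ∃ w, π w = 1 ∧ Z * A⁻¹ * Z⁻¹ = A⁻¹ * w := by
    refine h.lifts ?_
    rw [map_mul, map_mul, map_inv, map_inv, hZ, hA, (show Commute z a from hza).inv_right.eq, mul_inv_cancel_right]
  have hw1 : w ≠ 1 := fun e => by
    rw [e, mul_one, mul_inv_eq_iff_eq_mul] at hwe
    have hZA : Commute Z A := Commute.inv_right_iff.mp hwe
    have hnd : [p, q, r, s].Nodup := by simp [n1, n2, n3, n4, n5, n6]
    refine h.not_commute hn hnd hP hZ (Commute.symm ?_)
    have hPY : Commute Z (P * Y) := h.commute_congr rfl hA'.symm hZA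
    have := hPY.mul_right hZY.inv_right
    rwa [mul_inv_cancel_right] at this
  have hwc : w = c := by
    obtain ⟨x1, x2, -, huniv⟩ := Nat.card_eq_two_iff.mp h.card
    have key : ∀ u v : π.ker, u ≠ 1 → v ≠ 1 → u = v := by
      intro u v hu hv
      have hu' : u ∈ ({x1, x2} : Set _) := huniv ▸ Set.mem_univ u
      have hv' : v ∈ ({x1, x2} : Set _) := huniv ▸ Set.mem_univ v
      have h1' : (1 : π.ker) ∈ ({x1, x2} : Set _) := huniv ▸ Set.mem_univ _
      rcases hu' with rfl | rfl <;> rcases hv' with rfl | rfl <;> first | rfl | (rcases h1' with e | e <;> simp_all)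
    exact congrArg Subtype.val (key ⟨w, hw⟩ ⟨c, hc⟩ (fun e => hw1 (congrArg Subtype.val e))
      (fun e => hc1 (congrArg Subtype.val e)))
  refine ⟨A, B * Z, ?_⟩
  rw [hxc, ← hwc, mul_inv_rev]
  calc A * (B * Z) * A⁻¹ * (Z⁻¹ * B⁻¹) = A * B * (Z * A⁻¹ * Z⁻¹) * B⁻¹ := by group
    _ = A * B * A⁻¹ * (w * B⁻¹) := by rw [hwe]; group
    _ = A * B * A⁻¹ * B⁻¹ * w := by rw [← h.cen hw B⁻¹]; group

theorem IsCover.all_commutators [Finite G] (h : IsCover π) (hn : 5 ≤ n) (x : G) :
    ∃ u v : G, u * v * u⁻¹ * v⁻¹ = x := by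
  classical
  refine h.commutator_lift (by omega) ?_ x rfl
  by_cases h1 : π x = 1
  · rw [h1]
    let a : Fin n := ⟨0, by omega⟩
    let b : Fin n := ⟨1, by omega⟩
    let c : Fin n := ⟨2, by omega⟩
    let d : Fin n := ⟨3, by omega⟩
    refine ⟨swap a b * swap c d, ?_, ⟨a, b, c, d, ?_⟩, ?_⟩
    · rw [map_mul, Perm.sign_swap (by simp [a, b]), Perm.sign_swap (by simp [c, d])]; rfl
    · simp [a, b, c, d, swap_apply_of_ne_of_ne]
    · rw [mul_one, Perm.cycleType_inv]
  · exact Ore.good_all (by rw [Fintype.card_fin]; exact hn) (h.even x) h1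

end CfsgAltCover.Anti
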